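import Mathlib

/-!
# Abelian subgroups `A` with `|A|³ < |G|`: the frame for S2501

* `Ab3 G` : every abelian subgroup `A` of `G` satisfies `|A| ^ 3 < |G|`;
* `AbLE b H` : every abelian subgroup of `H` has order at most `b`;
* tools for `AbLE` (homomorphisms, quotients, orders) and `ab3_of_cent`.
-/

set_option autoImplicit false
set_option linter.unusedSectionVars false

namespace Cfsg.Agent.H498.Ab

open Subgroup

/-- every abelian subgroup `A` of `G` satisfies `|A| ^ 3 < |G|` -/
def Ab3 (G : Type*) [Group G] : Prop := ∀ A : Subgroup G, IsMulCommutative A → Nat.card A ^ 3 < Nat.card G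

/-- every abelian subgroup of `H` has order at most `b` -/
def AbLE (b : ℕ) (H : Type*) [Group H] : Prop := ∀ A : Subgroup H, IsMulCommutative A → Nat.card A ≤ b

section basic

variable {G H : Type*} [Group G] [Group H]

/-- the image of an abelian subgroup is abelian -/
theorem comm_map (f : G →* H) {A : Subgroup G} (hA : IsMulCommutative A) : IsMulCommutative (A.map f) := by
  have h0 : ∀ x ∈ A, ∀ y ∈ A, x * y = y * x := fun x hx y hy => by
    have := hA.is_comm.comm ⟨x, hx⟩ ⟨y, hy⟩
    exact congrArg Subtype.val this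
  refine ⟨⟨?_⟩⟩
  rintro ⟨x, hx⟩ ⟨y, hy⟩
  obtain ⟨x', hx', rfl⟩ := hx
  obtain ⟨y', hy', rfl⟩ := hy
  apply Subtype.ext
  show f x' * f y' = f y' * f x'
  rw [← map_mul, ← map_mul, h0 x' hx' y' hy']

/-- a subgroup of an abelian subgroup is abelian -/
theorem comm_of_le {A B : Subgroup G} (hAB : A ≤ B) (hB : IsMulCommutative B) : IsMulCommutative A := by
  refine ⟨⟨fun x y => ?_⟩⟩
  have := hB.is_comm.comm ⟨x, hAB x.2⟩ ⟨y, hAB y.2⟩
  exact Subtype.ext (show x.1 * y.1 = y.1 * x.1 from congrArg Subtype.val this)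

theorem comm_iff {A : Subgroup G} : IsMulCommutative A ↔ ∀ x ∈ A, ∀ y ∈ A, x * y = y * x := by
  constructor
  · intro h x hx y hy
    exact congrArg Subtype.val (h.is_comm.comm ⟨x, hx⟩ ⟨y, hy⟩)
  · intro h
    exact ⟨⟨fun x y => Subtype.ext (h x x.2 y y.2)⟩⟩

theorem comm_comap_of_injective {f : G →* H} (hf : Function.Injective f) {A : Subgroup H} (hA : IsMulCommutative A) :
    IsMulCommutative (A.comap f) := by
  rw [comm_iff] at hA ⊢
  intro x hx y hy
  apply hf
  rw [map_mul, map_mul]
  exact hA _ hx _ hy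

theorem Ab3.congr (e : G ≃* H) (h : Ab3 G) : Ab3 H := by
  intro A hA
  have h1 := h (A.map (e.symm : H →* G)) (comm_map _ hA)
  have h2 : Nat.card (A.map (e.symm : H →* G)) = Nat.card A :=
    Nat.card_congr (Subgroup.equivMapOfInjective A (e.symm : H →* G) e.symm.injective).symm.toEquiv
  rw [h2, Nat.card_congr e.toEquiv] at h1
  exact h1

theorem AbLE.congr {b : ℕ} (e : G ≃* H) (h : AbLE b G) : AbLE b H := by
  intro A hA
  have h1 := h (A.map (e.symm : H →* G)) (comm_map _ hA)
  have h2 : Nat.card (A.map (e.symm : H →* G)) = Nat.card A :=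
    Nat.card_congr (Subgroup.equivMapOfInjective A (e.symm : H →* G) e.symm.injective).symm.toEquiv
  rwa [h2] at h1

theorem AbLE.mono {b c : ℕ} (h : AbLE b G) (hbc : b ≤ c) : AbLE c G := fun A hA => (h A hA).trans hbc

theorem AbLE.of_injective [Finite H] {b : ℕ} (h : AbLE b H) (f : G →* H) (hf : Function.Injective f) : AbLE b G := by
  intro A hA
  have h2 : Nat.card (A.map f) = Nat.card A :=
    Nat.card_congr (Subgroup.equivMapOfInjective A f hf).symm.toEquiv
  rw [← h2]
  exact h _ (comm_map f hA)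

theorem abLE_card [Finite G] : AbLE (Nat.card G) G := fun A _ => Subgroup.card_le_card_group A

theorem abLE_of_card_le [Finite G] {b : ℕ} (h : Nat.card G ≤ b) : AbLE b G := abLE_card.mono h

/-- an abelian subgroup of a nonabelian group: index at least two -/
theorem abLE_half [Finite G] (hna : ¬ IsMulCommutative G) : AbLE (Nat.card G / 2) G := by
  intro A hA
  have h1 : A ≠ ⊤ := by
    rintro rfl
    apply hna
    rw [comm_iff] at hA
    exact ⟨⟨fun x y => hA x trivial y trivial⟩⟩
  have h2 : A.index ≠ 1 := fun h => h1 (Subgroup.index_eq_one.1 h)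
  have h3 : A.index ≠ 0 := Subgroup.index_ne_zero_of_finite
  rw [Nat.le_div_iff_mul_le two_pos, ← A.card_mul_index]
  exact Nat.mul_le_mul_left _ (by omega)

/-- a nonabelian group whose order has no prime factor below `r`: index at least `r` -/
theorem abLE_div [Finite G] (hna : ¬ IsMulCommutative G) {r : ℕ} (hr0 : 0 < r)
    (hr : ∀ s : ℕ, s.Prime → s ∣ Nat.card G → r ≤ s) : AbLE (Nat.card G / r) G := by
  intro A hA
  have h1 : A ≠ ⊤ := by
    rintro rfl
    apply hna
    rw [comm_iff] at hA
    exact ⟨⟨fun x y => hA x trivial y trivial⟩⟩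
  have h2 : A.index ≠ 1 := fun h => h1 (Subgroup.index_eq_one.1 h)
  have h3 : A.index ≠ 0 := Subgroup.index_ne_zero_of_finite
  have h4 : r ≤ A.index := (hr _ (Nat.minFac_prime h2) ((Nat.minFac_dvd _).trans A.index_dvd_card)).trans
    (Nat.minFac_le (by omega))
  rw [Nat.le_div_iff_mul_le hr0, ← A.card_mul_index]
  exact Nat.mul_le_mul_left _ h4

/-- the order of an abelian subgroup through a homomorphism -/
theorem AbLE.of_hom [Finite G] {b c : ℕ} (f : G →* H) (hH : AbLE b f.range) (hK : AbLE c f.ker) : AbLE (b * c) G := by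
  intro A hA
  have h1 : Nat.card (A.map f.rangeRestrict) ≤ b := hH _ (comm_map _ hA)
  have h2 : Nat.card (A.subgroupOf f.ker) ≤ c := hK _ (comm_comap_of_injective (f := f.ker.subtype)
    (Subgroup.subtype_injective _) hA)
  have h3 : Nat.card A = Nat.card (A.map f.rangeRestrict) * Nat.card (A.subgroupOf f.ker) := by
    have h4 := Subgroup.card_mul_index ((f.rangeRestrict.comp A.subtype).ker)
    have h5 : Nat.card ((f.rangeRestrict.comp A.subtype).ker) = Nat.card (A.subgroupOf f.ker) := by
      refine Nat.card_congr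
        { toFun := fun x => ⟨⟨x.1.1, ?_⟩, x.1.2⟩
          invFun := fun x => ⟨⟨x.1.1, x.2⟩, ?_⟩
          left_inv := fun x => rfl
          right_inv := fun x => rfl }
      · have := x.2
        rw [MonoidHom.mem_ker] at this ⊢
        exact congrArg Subtype.val this
      · rw [MonoidHom.mem_ker]
        exact Subtype.ext x.1.2
    have h6 : ((f.rangeRestrict.comp A.subtype).ker).index = Nat.card (A.map f.rangeRestrict) := by
      rw [Subgroup.index_ker, ← MonoidHom.map_range, Subgroup.range_subtype]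
    rw [h5, h6] at h4
    rw [← h4, mul_comm]
  rw [h3]
  exact Nat.mul_le_mul h1 h2

/-- the order of an abelian subgroup through a quotient -/
theorem AbLE.of_quotient [Finite G] {b c : ℕ} (N : Subgroup G) [N.Normal] (hH : AbLE b (G ⧸ N)) (hK : AbLE c N) :
    AbLE (b * c) G := by
  refine AbLE.of_hom (QuotientGroup.mk' N) ?_ ?_
  · exact hH.of_injective _ (Subgroup.subtype_injective _)
  · rw [QuotientGroup.ker_mk']
    exact hK

theorem AbLE.of_index [Finite G] {b : ℕ} (H : Subgroup G) (h : AbLE b H) : AbLE (b * H.index) G := by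
  intro A hA
  have h1 : Nat.card (A.subgroupOf H) ≤ b := h _ (comm_comap_of_injective (f := H.subtype)
    (Subgroup.subtype_injective _) hA)
  have h2 : Nat.card (H.subgroupOf A) * H.relIndex A = Nat.card A := Subgroup.card_mul_index _
  have h3 : Nat.card (A.subgroupOf H) = Nat.card (H.subgroupOf A) := by
    refine Nat.card_congr
      { toFun := fun x => ⟨⟨x.1.1, x.2⟩, x.1.2⟩
        invFun := fun x => ⟨⟨x.1.1, x.2⟩, x.1.2⟩
        left_inv := fun x => rfl
        right_inv := fun x => rfl }
  have h4 : H.relIndex A ≤ H.index := by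
    have h5 := Subgroup.relIndex_le_of_le_right (H := H) (le_top : A ≤ ⊤)
      (by rw [Subgroup.relIndex_top_right]; exact Subgroup.index_ne_zero_of_finite)
    rwa [Subgroup.relIndex_top_right] at h5
  rw [← h2, ← h3]
  exact Nat.mul_le_mul h1 h4

/-- simple sections -/
theorem Ab3.abLE {b : ℕ} (h : Ab3 G) (hb : Nat.card G ≤ b ^ 3) : AbLE b G := by
  intro A hA
  have h1 := h A hA
  by_contra h2
  push Not at h2
  have : b ^ 3 < Nat.card A ^ 3 := Nat.pow_lt_pow_left h2 (by norm_num)
  omega

end basic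

section main

variable {G : Type*} [Group G] [Finite G]

/-- an abelian subgroup containing `x` lies in the centraliser of `x` -/
theorem card_le_of_mem {b : ℕ} {x : G} (hb : AbLE b (centralizer ({x} : Set G))) {A : Subgroup G}
    (hA : IsMulCommutative A) (hx : x ∈ A) : Nat.card A ≤ b := by
  have h1 : A ≤ centralizer ({x} : Set G) := by
    intro a ha
    rw [mem_centralizer_singleton_iff]
    exact comm_iff.1 hA a ha x hx
  have h2 := hb (A.subgroupOf (centralizer ({x} : Set G))) (comm_comap_of_injective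
    (f := (centralizer ({x} : Set G)).subtype) (Subgroup.subtype_injective _) hA)
  rwa [Nat.card_congr (Subgroup.subgroupOfEquivOfLe h1).toEquiv] at h2

/-- **The main criterion.** `S` a set of primes; for `p ∈ S` and `x` of order `p` the abelian subgroups of the
centraliser of `x` have order at most `b p` with `(b p) ^ 3 < |G|`; `|G| = M * K`, all primes of `K` in `S`, `M ^ 3 < |G|`. -/
theorem ab3_of_cent {S : Finset ℕ} {M K : ℕ} (hG : Nat.card G = M * K) (hK : ∀ p : ℕ, p.Prime → p ∣ K → p ∈ S)
    (hM : M ^ 3 < Nat.card G) (b : ℕ → ℕ) (hb : ∀ p ∈ S, b p ^ 3 < Nat.card G)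
    (hS : ∀ p ∈ S, p.Prime → ∀ x : G, orderOf x = p → AbLE (b p) (centralizer ({x} : Set G))) : Ab3 G := by
  intro A hA
  by_cases h : ∃ p ∈ S, p.Prime ∧ p ∣ Nat.card A
  · obtain ⟨p, hpS, hp, hpA⟩ := h
    have : Fact p.Prime := ⟨hp⟩
    obtain ⟨x, hx⟩ := exists_prime_orderOf_dvd_card' p hpA
    have h1 := card_le_of_mem (hS p hpS hp x.1 (by rw [Subgroup.orderOf_coe]; exact hx)) hA x.2
    exact (Nat.pow_le_pow_left h1 3).trans_lt (hb p hpS)
  · push Not at h
    have h1 : Nat.Coprime (Nat.card A) K := by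
      rw [Nat.Coprime, Nat.eq_one_iff_not_exists_prime_dvd]
      intro p hp hpd
      exact h p (hK p hp (hpd.trans (Nat.gcd_dvd_right _ _))) hp (hpd.trans (Nat.gcd_dvd_left _ _))
    have h2 : Nat.card A ∣ M := by
      have h3 : Nat.card A ∣ M * K := hG ▸ Subgroup.card_subgroup_dvd_card A
      exact h1.dvd_of_dvd_mul_right h3
    have hM0 : M ≠ 0 := by
      rintro rfl
      rw [zero_mul] at hG
      exact Nat.card_pos.ne' hG
    exact (Nat.pow_le_pow_left (Nat.le_of_dvd (Nat.pos_of_ne_zero hM0) h2) 3).trans_lt hM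

/-- A `p`-version: every abelian subgroup is treated according to a prime `p` dividing its order, or has order dividing
`M`. -/
theorem ab3_of_forall {S : Finset ℕ} {M K : ℕ} (hG : Nat.card G = M * K) (hK : ∀ p : ℕ, p.Prime → p ∣ K → p ∈ S)
    (hM : ∀ A : Subgroup G, IsMulCommutative A → Nat.card A ∣ M → Nat.card A ^ 3 < Nat.card G)
    (hS : ∀ p ∈ S, p.Prime → ∀ A : Subgroup G, IsMulCommutative A → p ∣ Nat.card A → Nat.card A ^ 3 < Nat.card G) :
    Ab3 G := by
  intro A hA
  by_cases h : ∃ p ∈ S, p.Prime ∧ p ∣ Nat.card A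
  · obtain ⟨p, hpS, hp, hpA⟩ := h
    exact hS p hpS hp A hA hpA
  · push Not at h
    have h1 : Nat.Coprime (Nat.card A) K := by
      rw [Nat.Coprime, Nat.eq_one_iff_not_exists_prime_dvd]
      intro p hp hpd
      exact h p (hK p hp (hpd.trans (Nat.gcd_dvd_right _ _))) hp (hpd.trans (Nat.gcd_dvd_left _ _))
    have h2 : Nat.card A ∣ M := by
      have h3 : Nat.card A ∣ M * K := hG ▸ Subgroup.card_subgroup_dvd_card A
      exact h1.dvd_of_dvd_mul_right h3
    exact hM A hA h2

/-- an abelian subgroup of a group with a nonabelian Sylow `p`-subgroup: `p * |A|_p` divides `|G|_p` -/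
theorem dvd_of_sylow {p : ℕ} [Fact p.Prime] (P : Sylow p G) (hP : ¬ IsMulCommutative P) {n : ℕ}
    (hn : Nat.card P = p ^ (n + 1)) {A : Subgroup G} (hA : IsMulCommutative A) : ¬ p ^ (n + 1) ∣ Nat.card A := by
  intro h
  obtain ⟨Q, hQ⟩ := Sylow.exists_subgroup_card_pow_prime (G := A) p h
  apply hP
  have h1 : Nat.card (Q.map A.subtype) = p ^ (n + 1) := by
    rw [← hQ]
    exact Nat.card_congr (Subgroup.equivMapOfInjective Q A.subtype (Subgroup.subtype_injective _)).symm.toEquiv
  have hQp : IsPGroup p (Q.map A.subtype) := IsPGroup.of_card h1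
  obtain ⟨P', hP'⟩ := hQp.exists_le_sylow
  have h2 : Nat.card P' = Nat.card P := by
    rw [Sylow.card_eq_multiplicity, Sylow.card_eq_multiplicity]
  have h3 : (Q.map A.subtype) = P' := by
    refine Subgroup.eq_of_le_of_card_ge hP' ?_
    rw [h1, h2, hn]
  have h4 : IsMulCommutative (P' : Subgroup G) := by
    rw [← h3]
    refine comm_of_le ?_ hA
    exact Subgroup.map_subtype_le _
  obtain ⟨g, hg⟩ := MulAction.exists_smul_eq G P' P
  have h5 : (P : Subgroup G) = (P' : Subgroup G).map (MulAut.conj g).toMonoidHom := by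
    rw [← hg]
    rfl
  show IsMulCommutative (P : Subgroup G)
  rw [h5]
  exact comm_map _ h4

end main

end Cfsg.Agent.H498.Ab
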