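import Cfsg.Agent.H498.Ab.Heis

/-!
# Abelian subgroups of `H / Z(H)` for a linear group `H` with scalar centre
-/

set_option autoImplicit false
set_option linter.unusedSectionVars false
set_option linter.deprecated false

namespace Cfsg.Agent.H498.Ab.Lift

open Subgroup Cfsg.Agent.H498.Ab.Heis Cfsg.Agent.H498.Ab.Schur Cfsg.Agent.H498.Ab.Inv Cfsg.Agent.H498.Ab.Uni

universe u v w

section lift

variable {F : Type*} [Field F] {R : Type*} [Ring R] [Algebra F R] [Nontrivial R] [Finite R] {H : Type*} [Group H]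
  [Finite H]

theorem card_comap_mk (A : Subgroup (H ⧸ center H)) :
    Nat.card (A.comap (QuotientGroup.mk' (center H))) = Nat.card A * Nat.card (center H) := by
  have h1 := (A.comap (QuotientGroup.mk' (center H))).card_mul_index
  have h2 := A.card_mul_index
  have h3 : (A.comap (QuotientGroup.mk' (center H))).index = A.index :=
    Subgroup.index_comap_of_surjective A (QuotientGroup.mk'_surjective _)
  have h4 := (center H).card_eq_card_quotient_mul_card_subgroup
  rw [h3, h4, ← h2] at h1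
  have h5 : A.index ≠ 0 := Subgroup.index_ne_zero_of_finite
  apply Nat.eq_of_mul_eq_mul_right (Nat.pos_of_ne_zero h5)
  rw [h1]
  ring

/-- **The lift of an abelian subgroup of `H / Z(H)`.** -/
theorem lift (ρ : H →* R) (hρ : Function.Injective ρ) (hZ : ∀ z ∈ center H, ∃ c : F, ρ z = c • 1)
    (A : Subgroup (H ⧸ center H)) (hA : IsMulCommutative A) :
    ∃ (Z B : Subgroup H) (h : ℕ), 1 ≤ h ∧ Z ≤ B ∧ center H ≤ Z ∧ IsMulCommutative B ∧
      Nat.card A * Nat.card (center H) ≤ h ^ 2 * Nat.card Z ∧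
      Nat.card (Algebra.adjoin F (ρ '' (Z : Set H))) ^ h ≤ Nat.card (Algebra.adjoin F (ρ '' (B : Set H))) ∧
      (∀ k : ℕ, (∀ z ∈ center H, z ^ k = 1) → ∀ r : ℕ, r.Prime → r ∣ h → r ∣ k) := by
  set G₁ := A.comap (QuotientGroup.mk' (center H)) with hG₁
  have hcomm : ∀ x y : G₁, (x * y * x⁻¹ * y⁻¹).1 ∈ center H := by
    intro x y
    rw [← QuotientGroup.eq_one_iff]
    have h1 := comm_iff.1 hA (QuotientGroup.mk' (center H) x.1) x.2 (QuotientGroup.mk' (center H) y.1) y.2
    change (QuotientGroup.mk' (center H)) (x.1 * y.1 * x.1⁻¹ * y.1⁻¹) = 1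
    rw [map_mul, map_mul, map_mul, map_inv, map_inv, h1]
    group
  have hc : ∀ x y : G₁, ∃ c : F, (ρ.comp G₁.subtype) x * (ρ.comp G₁.subtype) y =
      c • ((ρ.comp G₁.subtype) y * (ρ.comp G₁.subtype) x) := by
    intro x y
    obtain ⟨c, hc⟩ := hZ _ (hcomm x y)
    refine ⟨c, ?_⟩
    show ρ x.1 * ρ y.1 = c • (ρ y.1 * ρ x.1)
    rw [← map_mul, ← map_mul]
    have h1 : x.1 * y.1 = (x * y * x⁻¹ * y⁻¹).1 * (y.1 * x.1) := by
      show x.1 * y.1 = x.1 * y.1 * x.1⁻¹ * y.1⁻¹ * (y.1 * x.1)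
      group
    rw [h1, map_mul, hc, smul_mul_assoc, one_mul]
  have hρ' : Function.Injective (ρ.comp G₁.subtype) := hρ.comp G₁.subtype_injective
  obtain ⟨B, h, hZB, hB, h1, hcard, hadj, hexp⟩ := heis hc hρ'
  have himg : ∀ K : Subgroup G₁, (ρ '' ((K.map G₁.subtype : Subgroup H) : Set H)) = (ρ.comp G₁.subtype) '' (K : Set G₁) := by
    intro K
    rw [Subgroup.coe_map, Set.image_image]
    rfl
  refine ⟨(center G₁).map G₁.subtype, B.map G₁.subtype, h, h1, Subgroup.map_mono hZB, ?_, comm_map _ hB, ?_, ?_, ?_⟩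
  · intro z hz
    have hzG : z ∈ G₁ := by
      show QuotientGroup.mk' (center H) z ∈ A
      have : QuotientGroup.mk' (center H) z = 1 := (QuotientGroup.eq_one_iff z).2 hz
      rw [this]
      exact A.one_mem
    refine ⟨⟨z, hzG⟩, ?_, rfl⟩
    rw [SetLike.mem_coe, mem_center_iff]
    intro g
    exact Subtype.ext (mem_center_iff.1 hz g.1)
  · rw [← card_comap_mk, ← hG₁]
    rw [Nat.card_congr (Subgroup.equivMapOfInjective (center G₁) G₁.subtype G₁.subtype_injective).symm.toEquiv]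
    exact hcard
  · rw [himg, himg]
    exact hadj
  · intro k hk
    apply hexp k
    intro x y c hxy
    have h2 : ρ (x * y * x⁻¹ * y⁻¹).1 = c • 1 := by
      have h3 : (ρ (x * y * x⁻¹ * y⁻¹).1) * (ρ y.1 * ρ x.1) = (c • 1) * (ρ y.1 * ρ x.1) := by
        rw [smul_mul_assoc, one_mul]
        change ρ x.1 * ρ y.1 = c • (ρ y.1 * ρ x.1) at hxy
        rw [← hxy, ← map_mul, ← map_mul, ← map_mul]
        congr 1
        show x.1 * y.1 * x.1⁻¹ * y.1⁻¹ * (y.1 * x.1) = x.1 * y.1
        group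
      exact ((isUnit_rho ρ y.1).mul (isUnit_rho ρ x.1)).mul_left_injective h3
    have h3 : (c ^ k) • (1 : R) = (1 : F) • (1 : R) := by
      have h4 : ρ ((x * y * x⁻¹ * y⁻¹).1 ^ k) = (c ^ k) • (1 : R) := by rw [map_pow, h2, smul_pow, one_pow]
      rw [← h4, hk _ (hcomm x y), map_one, one_smul]
    exact smul_inj isUnit_one h3

/-- extension by scalars -/
theorem card_scalar (ρ : H →* R) (hρ : Function.Injective ρ) (K : Subgroup Fˣ) [Finite K] (Z : Subgroup H) (T : Set R)
    (hT : ∀ c ∈ K, ∀ z ∈ Z, (c : F) • ρ z ∈ T) : Nat.card K * Nat.card Z ≤ Nat.card (center H) * Nat.card T := by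
  -- the scalars in `ρ H` are central
  have hcen : ∀ (z : H) (c : F), ρ z = c • 1 → z ∈ center H := by
    intro z c hz
    rw [mem_center_iff]
    intro g
    apply hρ
    rw [map_mul, map_mul, hz, mul_smul_comm, mul_one, smul_mul_assoc, one_mul]
  let φ : K × Z →* Rˣ :=
    { toFun := fun x => (Units.map (algebraMap F R : F →* R) x.1.1) * (isUnit_rho ρ x.2.1).unit
      map_one' := by
        apply Units.ext
        show algebraMap F R 1 * ρ 1 = 1
        rw [map_one, map_one, one_mul]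
      map_mul' := fun x y => by
        apply Units.ext
        show algebraMap F R (x.1.1 * y.1.1 : F) * ρ (x.2.1 * y.2.1) =
          (algebraMap F R x.1.1 * ρ x.2.1) * (algebraMap F R y.1.1 * ρ y.2.1)
        have h1 := Algebra.commutes (y.1.1 : F) (ρ x.2.1)
        rw [map_mul, map_mul, mul_assoc, mul_assoc, ← mul_assoc (ρ x.2.1), ← h1, mul_assoc] }
  have hφ : ∀ x, ((φ x : Rˣ) : R) = (x.1.1 : F) • ρ x.2.1 := fun x => by
    show algebraMap F R x.1.1 * ρ x.2.1 = _
    rw [Algebra.smul_def]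
  have h1 : Nat.card (K × Z) = Nat.card φ.range * Nat.card φ.ker := by
    rw [← Subgroup.index_ker, mul_comm]
    exact (Subgroup.card_mul_index _).symm
  have h2 : Nat.card φ.range ≤ Nat.card T := by
    refine Nat.card_le_card_of_injective (fun x : φ.range => (⟨x.1.1, ?_⟩ : T)) ?_
    · obtain ⟨_, y, rfl⟩ := x
      show ((φ y : Rˣ) : R) ∈ T
      rw [hφ]
      exact hT _ y.1.2 _ y.2.2
    · intro x y hxy
      exact Subtype.ext (Units.ext (congrArg Subtype.val hxy))
  have h3 : Nat.card φ.ker ≤ Nat.card (center H) := by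
    have h4 : ∀ x : φ.ker, ρ x.1.2.1 = ((x.1.1.1⁻¹ : Fˣ) : F) • 1 := by
      intro x
      have h5 : ((φ x.1 : Rˣ) : R) = 1 := by
        rw [(MonoidHom.mem_ker).1 x.2]
        rfl
      rw [hφ] at h5
      rw [← h5, smul_smul, Units.inv_mul, one_smul]
    refine Nat.card_le_card_of_injective (fun x : φ.ker => (⟨x.1.2.1, hcen _ _ (h4 x)⟩ : center H)) ?_
    intro x y hxy
    have h5' : (x.1.2.1 : H) = y.1.2.1 := congrArg (fun z : center H => z.1) hxy
    have h5 : x.1.2 = y.1.2 := Subtype.ext h5'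
    have h6 := h4 x
    rw [h5, h4 y] at h6
    have h7 := smul_inj isUnit_one h6
    have h8 : x.1.1.1 = y.1.1.1 := (inv_injective (Units.ext h7)).symm
    exact Subtype.ext (Prod.ext (Subtype.ext h8) h5)
  rw [← Nat.card_prod, h1, mul_comm]
  exact Nat.mul_le_mul h3 h2

end lift

/-! ### the algebras -/

section alg

variable {F : Type u} [Field F] [Finite F] {R : Type v} [Ring R] [Algebra F R] [Finite R]
  (V : Type w) [AddCommGroup V] [Module R V] [Finite V] [FaithfulSMul R V] [Nontrivial V]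

theorem card_adjoin_eq (S : Set R) : Nat.card (Algebra.adjoin F S) = Nat.card F ^ Module.finrank F (Algebra.adjoin F S) :=
  Module.natCard_eq_pow_finrank

/-- Schur's bound -/
theorem adjoin_schur (S : Set R) (hS : ∀ a ∈ S, ∀ b ∈ S, a * b = b * a) {n : ℕ} (hn : Nat.card V = Nat.card F ^ n) :
    Nat.card (Algebra.adjoin F S) ≤ Nat.card F ^ (n ^ 2 / 4 + 1) := by
  let _ : CommRing (Algebra.adjoin F S) := Algebra.adjoinCommRingOfComm F hS
  have : FaithfulSMul (Algebra.adjoin F S) V := ⟨fun {x y} h => Subtype.ext (FaithfulSMul.eq_of_smul_eq_smul (α := V) h)⟩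
  exact card_le_schur (F := F) n (Algebra.adjoin F S) V hn

/-- the restriction of an anti-automorphism -/
theorem exists_inv {σ : F → F} {τ : R → R} (hadd : ∀ x y, τ (x + y) = τ x + τ y) (hmul : ∀ x y, τ (x * y) = τ y * τ x)
    (hinv : ∀ x, τ (τ x) = x) (hsc : ∀ c : F, τ (algebraMap F R c) = algebraMap F R (σ c)) (S : Set R)
    (hS : ∀ a ∈ S, ∀ b ∈ S, a * b = b * a) (hτ : ∀ x ∈ S, τ x ∈ S) :
    letI : CommRing (Algebra.adjoin F S) := Algebra.adjoinCommRingOfComm F hS
    ∃ s : Algebra.adjoin F S ≃+* Algebra.adjoin F S, (∀ x, ((s x : Algebra.adjoin F S) : R) = τ x) := by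
  letI : CommRing (Algebra.adjoin F S) := Algebra.adjoinCommRingOfComm F hS
  have hmem : ∀ x ∈ Algebra.adjoin F S, τ x ∈ Algebra.adjoin F S := by
    intro x hx
    induction hx using Algebra.adjoin_induction with
    | mem y hy => exact Algebra.subset_adjoin (hτ y hy)
    | algebraMap r => rw [hsc]; exact Subalgebra.algebraMap_mem _ _
    | add a b _ _ ha hb => rw [hadd]; exact add_mem ha hb
    | mul a b _ _ ha hb => rw [hmul]; exact mul_mem hb ha
  refine ⟨{ toFun := fun x => ⟨τ x.1, hmem _ x.2⟩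
            invFun := fun x => ⟨τ x.1, hmem _ x.2⟩
            left_inv := fun x => Subtype.ext (hinv _)
            right_inv := fun x => Subtype.ext (hinv _)
            map_mul' := fun x y => ?_
            map_add' := fun x y => Subtype.ext (hadd _ _) }, fun x => rfl⟩
  have h1 : (⟨τ x.1, hmem _ x.2⟩ : Algebra.adjoin F S) * ⟨τ y.1, hmem _ y.2⟩ = ⟨τ y.1, hmem _ y.2⟩ * ⟨τ x.1, hmem _ x.2⟩ :=
    mul_comm _ _
  rw [h1]
  exact Subtype.ext (hmul _ _)

variable {q : ℕ} (hq : Nat.card F = q ^ 2) {σ : F ≃+* F} (hσ : ∀ x, σ (σ x) = x) {η : F} (hη : σ η ≠ η)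

include hq hσ hη in
/-- the unitary bound -/
theorem adjoin_unitary {τ : R → R} (hadd : ∀ x y, τ (x + y) = τ x + τ y) (hmul : ∀ x y, τ (x * y) = τ y * τ x)
    (hinv : ∀ x, τ (τ x) = x) (hsc : ∀ c : F, τ (algebraMap F R c) = algebraMap F R (σ c)) (S : Set R)
    (hS : ∀ a ∈ S, ∀ b ∈ S, a * b = b * a) (hτ : ∀ x ∈ S, τ x ∈ S) {n : ℕ} (hn : Nat.card V = Nat.card F ^ n) :
    Nat.card {x : R | x ∈ Algebra.adjoin F S ∧ x * τ x = 1} ≤ β q n ∧
    Nat.card {x : R | x ∈ Algebra.adjoin F S ∧ x * τ x = 1} ≤ (q + 1) ^ Module.finrank F (Algebra.adjoin F S) := by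
  obtain ⟨s, hs⟩ := exists_inv hadd hmul hinv hsc S hS hτ
  letI : CommRing (Algebra.adjoin F S) := Algebra.adjoinCommRingOfComm F hS
  have hf : FaithfulSMul (Algebra.adjoin F S) V :=
    ⟨fun {x y} h => Subtype.ext (FaithfulSMul.eq_of_smul_eq_smul (α := V) h)⟩
  have h1 : Nat.card {x : R | x ∈ Algebra.adjoin F S ∧ x * τ x = 1} ≤ Nat.card (U s) := by
    refine Nat.card_le_card_of_injective (fun x => (⟨⟨x.1, x.2.1⟩, ?_⟩ : U s)) ?_
    · apply Subtype.ext
      show x.1 * (s ⟨x.1, x.2.1⟩ : Algebra.adjoin F S).1 = 1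
      rw [hs]
      exact x.2.2
    · intro x y hxy
      exact Subtype.ext (congrArg (fun z => (z.1 : Algebra.adjoin F S).1) hxy)
  have hs1 : ∀ c, s (s c) = c := fun c => Subtype.ext (by rw [hs, hs, hinv])
  have hs2 : ∀ x, s (algebraMap F _ x) = algebraMap F _ (σ x) := fun c => Subtype.ext (by rw [hs]; exact hsc c)
  exact ⟨h1.trans (card_U_le hq hσ hη (Algebra.adjoin F S) s V hs1 hs2 n hn),
    h1.trans (card_U_le_dim hq hσ hη (Algebra.adjoin F S) s V hs1 hs2 _ n (card_adjoin_eq S) hn)⟩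

end alg

end Cfsg.Agent.H498.Ab.Lift
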