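import Cfsg.Agent.H498.Ab.Lift
import Cfsg.Agent.S0278
import Cfsg.Agent.S0279
import Cfsg.Agent.LieClassical.SUBasic
import Cfsg.Agent.LieClassical.HermBasic

/-!
# The row `PSU_n(q)`, `n ≥ 3`, of S2501
-/

set_option autoImplicit false
set_option linter.unusedSectionVars false

namespace Cfsg.Agent.H498.Ab.RowU

open Subgroup Cfsg.Agent.H498.Ab.Lift Cfsg.Agent.H498.Ab.Heis Cfsg.Agent.H498.Ab.Uni Matrix
open Cfsg.Agent.LieClassical Cfsg.Agent.LieClassical.HermBasic

/-! ### arithmetic -/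

/-- the bound -/
def γ (q n : ℕ) : ℕ := max ((q + 1) ^ (n - 1)) (q ^ (n ^ 2 / 4))

theorem β_eq {q n : ℕ} (hn : 1 ≤ n) : β q n = (q + 1) * γ q n := by
  obtain ⟨n, rfl⟩ := Nat.exists_eq_add_of_le' hn
  unfold β γ
  rw [Nat.add_sub_cancel, pow_succ', Nat.mul_max_mul_left]

/-- `h² ≤ y ^ (h - 1)` -/
theorem sq_le {y h : ℕ} (hy : 3 ≤ y) (h1 : 1 ≤ h) (h2 : h = 2 → 4 ≤ y) : h ^ 2 ≤ y ^ (h - 1) := by
  by_cases hh : h = 1
  · subst hh; simp
  · by_cases hh2 : h = 2
    · subst hh2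
      have := h2 rfl
      simpa using this
    · obtain ⟨k, rfl⟩ := Nat.exists_eq_add_of_le (show 3 ≤ h by omega)
      have e : 3 + k - 1 = k + 2 := by omega
      rw [e]
      refine le_trans ?_ (Nat.pow_le_pow_left hy _)
      clear e h1 h2 hh hh2
      induction k with
      | zero => norm_num
      | succ k ih =>
        rw [show k + 1 + 2 = k + 2 + 1 by ring, pow_succ 3 (k + 2)]
        have h5 : (3 + (k + 1)) ^ 2 ≤ 3 * (3 + k) ^ 2 := by
          ring_nf
          nlinarith [Nat.zero_le k, Nat.zero_le (k ^ 2)]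
        linarith

/-- the arithmetic of the nonabelian lifts -/
theorem heis_u {q n h D : ℕ} (hq : 2 ≤ q) (hn : 3 ≤ n) (h1 : 2 ≤ h) (h2 : h = 2 → 3 ≤ q) (hD : 1 ≤ D)
    (hhD : h * D ≤ n ^ 2 / 4 + 1) : h ^ 2 * (q + 1) ^ (D - 1) ≤ γ q n := by
  have hs := sq_le (y := q + 1) (h := h) (by omega) (by omega) (fun h => by have := h2 h; omega)
  by_cases hD1 : D = 1
  · -- `h ≤ E + 1`
    subst hD1
    rw [mul_one] at hhD
    simp only [Nat.sub_self, pow_zero, mul_one]
    by_cases hn6 : n < 6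
    · refine le_trans ?_ (le_max_left _ _)
      have h3 : h ^ 2 ≤ 3 ^ (n - 1) := by
        have hh : h ≤ n ^ 2 / 4 + 1 := hhD
        interval_cases n
        · norm_num at hh
          calc h ^ 2 ≤ 3 ^ 2 := Nat.pow_le_pow_left hh 2
            _ ≤ _ := by norm_num
        · norm_num at hh
          calc h ^ 2 ≤ 5 ^ 2 := Nat.pow_le_pow_left hh 2
            _ ≤ _ := by norm_num
        · norm_num at hh
          calc h ^ 2 ≤ 7 ^ 2 := Nat.pow_le_pow_left hh 2
            _ ≤ _ := by norm_num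
      exact h3.trans (Nat.pow_le_pow_left (by omega) _)
    · refine le_trans ?_ (le_max_right _ _)
      have hE : 9 ≤ n ^ 2 / 4 := by
        have : 6 ^ 2 ≤ n ^ 2 := Nat.pow_le_pow_left (by omega) 2
        omega
      set E := n ^ 2 / 4 with hEdef
      have h3 : (E + 1) ^ 2 ≤ 2 ^ E := by
        clear_value E
        clear hEdef hhD hs
        induction E, hE using Nat.le_induction with
        | base => norm_num
        | succ k hk ih =>
          rw [pow_succ 2 k]
          nlinarith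
      calc h ^ 2 ≤ (E + 1) ^ 2 := Nat.pow_le_pow_left hhD 2
        _ ≤ 2 ^ E := h3
        _ ≤ _ := Nat.pow_le_pow_left hq _
  · -- `D ≥ 2`
    have hD2 : 2 ≤ D := by omega
    have h3 : h ^ 2 * (q + 1) ^ (D - 1) ≤ (q + 1) ^ (h - 1 + (D - 1)) := by
      rw [pow_add]
      exact Nat.mul_le_mul_right _ hs
    have h4 : 2 * (h - 1 + (D - 1)) ≤ n ^ 2 / 4 + 1 := by
      obtain ⟨a, rfl⟩ := Nat.exists_eq_add_of_le h1
      obtain ⟨b, rfl⟩ := Nat.exists_eq_add_of_le hD2
      have : (2 + a) * (2 + b) = 4 + 2 * a + 2 * b + a * b := by ring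
      have h5 : 2 * (2 + a - 1 + (2 + b - 1)) = 4 + 2 * a + 2 * b := by omega
      rw [h5]
      have := Nat.zero_le (a * b)
      omega
    set k := h - 1 + (D - 1) with hk
    have hk2 : 2 ≤ k := by omega
    refine h3.trans ?_
    by_cases hn4 : n = 4
    · refine le_trans ?_ (le_max_left _ _)
      subst hn4
      norm_num at h4
      exact Nat.pow_le_pow_right (by omega) (by omega)
    · have hn3 : n ≠ 3 := by
        rintro rfl
        norm_num at h4
        omega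
      refine le_trans ?_ (le_max_right _ _)
      -- `(q + 1) ^ k ≤ q ^ (2 k)`, and `≤ q ^ (2 k - 1)` for `k ≥ 3`
      have hE : 6 ≤ n ^ 2 / 4 := by
        have : 5 ^ 2 ≤ n ^ 2 := Nat.pow_le_pow_left (by omega) 2
        omega
      by_cases hk3 : k = 2
      · rw [hk3]
        calc (q + 1) ^ 2 ≤ (q ^ 2) ^ 2 := Nat.pow_le_pow_left (by nlinarith) 2
          _ = q ^ 4 := by rw [← pow_mul]
          _ ≤ _ := Nat.pow_le_pow_right (by omega) (by omega)
      · obtain ⟨j, hj⟩ := Nat.exists_eq_add_of_le (show 3 ≤ k by omega)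
        rw [hj, pow_add]
        have h5 : (q + 1) ^ 3 ≤ q ^ 5 := by
          obtain ⟨t, rfl⟩ := Nat.exists_eq_add_of_le hq
          ring_nf
          nlinarith [Nat.zero_le t, Nat.zero_le (t ^ 2), Nat.zero_le (t ^ 3), Nat.zero_le (t ^ 4), Nat.zero_le (t ^ 5)]
        calc (q + 1) ^ 3 * (q + 1) ^ j ≤ q ^ 5 * (q ^ 2) ^ j := Nat.mul_le_mul h5 (Nat.pow_le_pow_left (by nlinarith) j)
          _ = q ^ (5 + 2 * j) := by rw [← pow_mul, ← pow_add]
          _ ≤ _ := Nat.pow_le_pow_right (by omega) (by omega)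

/-! ### the bound -/

section bound

variable {F : Type*} [Field F] [Fintype F] {n q : ℕ} (hF : Fintype.card F = q ^ 2)

/-- the conjugate transpose -/
def τ (M : Matrix (Fin n) (Fin n) F) : Matrix (Fin n) (Fin n) F := (M.map (conj hF))ᵀ

theorem τ_add (M N : Matrix (Fin n) (Fin n) F) : τ hF (M + N) = τ hF M + τ hF N := by
  unfold τ
  rw [← Matrix.transpose_add]
  congr 1
  ext i j
  exact map_add (conj hF) _ _

theorem τ_mul (M N : Matrix (Fin n) (Fin n) F) : τ hF (M * N) = τ hF N * τ hF M := by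
  unfold τ
  rw [← Matrix.transpose_mul]
  congr 1
  exact Matrix.map_mul (f := (conj hF : F →+* F)) (L := M) (M := N)

theorem τ_τ (M : Matrix (Fin n) (Fin n) F) : τ hF (τ hF M) = M := by
  ext i j
  show conj hF (conj hF (M i j)) = M i j
  rw [conj_apply, conj_apply, pow_q_pow_q hF]

theorem τ_algebraMap (c : F) : τ hF (algebraMap F (Matrix (Fin n) (Fin n) F) c) =
    algebraMap F (Matrix (Fin n) (Fin n) F) (conj hF c) := by
  ext i j
  show conj hF (algebraMap F (Matrix (Fin n) (Fin n) F) c j i) = _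
  rw [Matrix.algebraMap_matrix_apply, Matrix.algebraMap_matrix_apply]
  by_cases h : i = j
  · subst h; simp
  · simp [h, Ne.symm h]

/-- unitary matrices -/
theorem τ_mul_self {A : Matrix.SpecialLinearGroup (Fin n) F} (hA : A ∈ SU n F q) :
    τ hF (A : Matrix (Fin n) (Fin n) F) * A = 1 := by
  ext j i
  have h1 := (SUBasic.mem_SU_iff A).1 hA (Pi.single i 1) (Pi.single j 1)
  rw [SUBasic.hermForm_apply, SUBasic.hermForm_apply] at h1
  rw [Matrix.mul_apply]
  have h2 : ∀ k, τ hF (A : Matrix (Fin n) (Fin n) F) j k * (A : Matrix (Fin n) (Fin n) F) k i =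
      ((A : Matrix (Fin n) (Fin n) F) *ᵥ Pi.single i 1) k * (((A : Matrix (Fin n) (Fin n) F) *ᵥ Pi.single j 1) k) ^ q := by
    intro k
    rw [Matrix.mulVec_single_one, Matrix.mulVec_single_one]
    show conj hF ((A : Matrix (Fin n) (Fin n) F) k j) * (A : Matrix (Fin n) (Fin n) F) k i =
      (A : Matrix (Fin n) (Fin n) F) k i * ((A : Matrix (Fin n) (Fin n) F) k j) ^ q
    rw [conj_apply, mul_comm]
  rw [Finset.sum_congr rfl fun k _ => h2 k, h1]
  by_cases h : i = j
  · subst h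
    rw [Finset.sum_eq_single i]
    · simp
    · intro b _ hb
      simp [hb]
    · simp
  · rw [Matrix.one_apply_ne (Ne.symm h)]
    apply Finset.sum_eq_zero
    intro k _
    by_cases hk : k = i
    · subst hk
      have : (Pi.single j (1 : F) : Fin n → F) k = 0 := by simp [h]
      rw [this, zero_pow_q hF, mul_zero]
    · have : (Pi.single i (1 : F) : Fin n → F) k = 0 := by simp [hk]
      rw [this, zero_mul]

include hF in
theorem card_le (hn : 3 ≤ n) (A : Subgroup (PSU n F q)) (hA : IsMulCommutative A) : Nat.card A ≤ γ q n := by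
  classical
  have : Nonempty (Fin n) := ⟨⟨0, by omega⟩⟩
  have : Nontrivial (Matrix (Fin n) (Fin n) F) := inferInstance
  have hq2 : 2 ≤ q := two_le hF
  have hqF : Nat.card F = q ^ 2 := by rw [Nat.card_eq_fintype_card, hF]
  let ρ : SU n F q →* Matrix (Fin n) (Fin n) F := (Cfsg.slToMat n F).comp (SU n F q).subtype
  have hρ0 : ∀ g : SU n F q, ρ g = ((g : Matrix.SpecialLinearGroup (Fin n) F) : Matrix (Fin n) (Fin n) F) := fun g => rfl
  have hρ : Function.Injective ρ := fun a b h => Subtype.ext (Subtype.ext h)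
  have hZ : ∀ z ∈ center (SU n F q), ∃ c : F, ρ z = c • 1 := by
    intro z hz
    obtain ⟨c, hcn, hcq, rfl⟩ := (SUBasic.mem_center_SU_iff hF hn z).1 hz
    refine ⟨c, ?_⟩
    rw [hρ0, SUBasic.coe_suScalar, Matrix.smul_one_eq_diagonal]
  obtain ⟨Z, B, h, h1, hZB, hcZ, hB, hcard, hadj, hexp⟩ := lift (F := F) ρ hρ hZ A hA
  have hBc := comm_iff.1 hB
  have hS : ∀ a ∈ ρ '' (B : Set (SU n F q)), ∀ b ∈ ρ '' (B : Set (SU n F q)), a * b = b * a := by
    rintro _ ⟨a, ha, rfl⟩ _ ⟨b, hb, rfl⟩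
    rw [← map_mul, ← map_mul, hBc a ha b hb]
  have hSZ : ∀ a ∈ ρ '' (Z : Set (SU n F q)), ∀ b ∈ ρ '' (Z : Set (SU n F q)), a * b = b * a := by
    rintro _ ⟨a, ha, rfl⟩ _ ⟨b, hb, rfl⟩
    rw [← map_mul, ← map_mul, hBc a (hZB ha) b (hZB hb)]
  have hV : Nat.card (Fin n → F) = Nat.card F ^ n := by
    rw [Nat.card_fun, Nat.card_eq_fintype_card (α := Fin n), Fintype.card_fin]
  have : FaithfulSMul (Matrix (Fin n) (Fin n) F) (Fin n → F) := ⟨fun h => Matrix.ext_iff_smul.2 h⟩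
  have hschur := adjoin_schur (F := F) (Fin n → F) _ hS hV
  set C₁ := Algebra.adjoin F (ρ '' (Z : Set (SU n F q))) with hC₁
  have hC1 : Nat.card C₁ = Nat.card F ^ Module.finrank F C₁ := card_adjoin_eq _
  -- the involution
  have hinvρ : ∀ g : SU n F q, τ hF (ρ g) = ρ g⁻¹ := by
    intro g
    have h2 : τ hF (ρ g) * ρ g = 1 := τ_mul_self hF g.2
    have h3 : ρ g * ρ g⁻¹ = 1 := by rw [← map_mul, mul_inv_cancel, map_one]
    calc τ hF (ρ g) = τ hF (ρ g) * (ρ g * ρ g⁻¹) := by rw [h3, mul_one]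
      _ = ρ g⁻¹ := by rw [← mul_assoc, h2, one_mul]
  obtain ⟨η, hη⟩ : ∃ η : F, conj hF η ≠ η := by
    by_contra hno
    push Not at hno
    obtain ⟨c, hc1, hc2⟩ := SUBasic.exists_norm_one (F := F) hF
    -- all elements would satisfy `x ^ q = x`
    have h2 : ∀ x : Fˣ, x ^ (q - 1) = 1 := by
      intro x
      have h3 : (x : F) ^ q = x := hno x
      apply Units.ext
      rw [Units.val_pow_eq_pow_val, Units.val_one]
      have h4 : (x : F) ^ (q - 1) * x = 1 * x := by
        rw [← pow_succ, Nat.sub_add_cancel (by omega), h3, one_mul]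
      exact mul_right_cancel₀ x.ne_zero h4
    obtain ⟨g, hg⟩ := IsCyclic.exists_generator (α := Fˣ)
    have h3 : orderOf g = (q + 1) * (q - 1) := by
      rw [← card_units_eq hF]; exact orderOf_eq_card_of_forall_mem_zpowers hg
    have h4 := orderOf_dvd_of_pow_eq_one (h2 g)
    rw [h3] at h4
    have h5 := Nat.le_of_dvd (by omega) h4
    have h6 : 3 * (q - 1) ≤ (q + 1) * (q - 1) := Nat.mul_le_mul_right _ (by omega)
    omega
  have hτ : ∀ x ∈ ρ '' (Z : Set (SU n F q)), τ hF x ∈ ρ '' (Z : Set (SU n F q)) := by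
    rintro _ ⟨z, hz, rfl⟩
    rw [hinvρ]
    exact ⟨z⁻¹, Z.inv_mem hz, rfl⟩
  obtain ⟨hT1, hT2⟩ := adjoin_unitary (F := F) (R := Matrix (Fin n) (Fin n) F) (Fin n → F) (q := q) hqF
    (σ := conj hF) (fun x => pow_q_pow_q hF x) hη (τ := τ hF) (τ_add hF) (τ_mul hF) (τ_τ hF) (τ_algebraMap hF)
    (ρ '' (Z : Set (SU n F q))) hSZ hτ hV
  -- the scalars
  let K : Subgroup Fˣ := (powMonoidHom (q + 1) : Fˣ →* Fˣ).ker
  have hK : Nat.card K = q + 1 := by
    show Nat.card (powMonoidHom (q + 1) : Fˣ →* Fˣ).ker = q + 1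
    rw [IsCyclic.card_powMonoidHom_ker, card_units_eq hF]
    simp
  have hT : Nat.card K * Nat.card Z ≤ Nat.card (center (SU n F q)) *
      Nat.card {x : Matrix (Fin n) (Fin n) F | x ∈ C₁ ∧ x * τ hF x = 1} := by
    refine card_scalar ρ hρ K Z _ ?_
    intro c hc z hz
    refine ⟨C₁.smul_mem (Algebra.subset_adjoin ⟨z, hz, rfl⟩) _, ?_⟩
    have h2 : (c : F) * conj hF c = 1 := by
      rw [conj_apply, ← pow_succ', ← Units.val_pow_eq_pow_val]
      have : c ^ (q + 1) = 1 := hc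
      rw [this, Units.val_one]
    have h3 : ρ z * ρ z⁻¹ = 1 := by rw [← map_mul, mul_inv_cancel, map_one]
    rw [← hinvρ] at h3
    rw [Algebra.smul_def, τ_mul, τ_algebraMap]
    calc algebraMap F _ (c : F) * ρ z * (τ hF (ρ z) * algebraMap F _ (conj hF (c : F))) =
        algebraMap F _ (c : F) * (ρ z * τ hF (ρ z)) * algebraMap F _ (conj hF (c : F)) := by
          simp only [mul_assoc]
      _ = algebraMap F _ ((c : F) * conj hF c) := by rw [h3, mul_one, map_mul]
      _ = 1 := by rw [h2, map_one]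
  rw [hK] at hT
  set d := Nat.card (center (SU n F q)) with hd
  have hd0 : 0 < d := Nat.card_pos
  set T := Nat.card {x : Matrix (Fin n) (Fin n) F | x ∈ C₁ ∧ x * τ hF x = 1} with hTdef
  have h2 : (q + 1) * Nat.card A ≤ h ^ 2 * T := by
    apply Nat.le_of_mul_le_mul_right _ hd0
    calc (q + 1) * Nat.card A * d = (q + 1) * (Nat.card A * d) := by ring
      _ ≤ (q + 1) * (h ^ 2 * Nat.card Z) := Nat.mul_le_mul_left _ hcard
      _ = h ^ 2 * ((q + 1) * Nat.card Z) := by ring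
      _ ≤ h ^ 2 * (d * T) := Nat.mul_le_mul_left _ hT
      _ = _ := by ring
  by_cases hh : h = 1
  · subst hh
    rw [one_pow, one_mul] at h2
    have h3 := h2.trans hT1
    rw [β_eq (by omega)] at h3
    exact Nat.le_of_mul_le_mul_left h3 (by omega)
  · set D := Module.finrank F C₁ with hD
    have hD1 : 1 ≤ D := by
      rcases Nat.eq_zero_or_pos D with h0 | h0
      · exfalso
        rw [h0, pow_zero] at hC1
        have : Nontrivial C₁ := inferInstance
        have : 1 < Nat.card C₁ := Finite.one_lt_card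
        omega
      · exact h0
    have hQ : 1 < Nat.card F := Finite.one_lt_card
    have h3 : h * D ≤ n ^ 2 / 4 + 1 := by
      have h4 := hadj.trans hschur
      rw [hC1, ← pow_mul] at h4
      rw [mul_comm]
      exact (Nat.pow_le_pow_iff_right hQ).1 h4
    have h4 : h = 2 → 3 ≤ q := by
      intro h4
      have h5 := hexp (q + 1) (by
        intro z hz
        obtain ⟨c, hcn, hcq, rfl⟩ := (SUBasic.mem_center_SU_iff hF hn z).1 hz
        apply hρ
        rw [map_pow, map_one, hρ0, SUBasic.coe_suScalar, Matrix.diagonal_pow]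
        ext i j
        by_cases hij : i = j
        · subst hij
          simp [hcq]
        · simp [hij]) 2 Nat.prime_two (by rw [h4])
      omega
    have h5 := heis_u hq2 hn (by omega) h4 hD1 h3
    have h6 : (q + 1) * Nat.card A ≤ (q + 1) * (h ^ 2 * (q + 1) ^ (D - 1)) := by
      calc (q + 1) * Nat.card A ≤ h ^ 2 * T := h2
        _ ≤ h ^ 2 * (q + 1) ^ D := Nat.mul_le_mul_left _ hT2
        _ = _ := by
          obtain ⟨e, he⟩ := Nat.exists_eq_add_of_le' hD1
          rw [he, Nat.add_sub_cancel, pow_succ]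
          ring
    exact (Nat.le_of_mul_le_mul_left h6 (by omega)).trans h5

end bound

/-! ### numerics -/

/-- the order of `GU_n(q)` -/
def PU (q n : ℕ) : ℕ :=
  q ^ (n * (n - 1) / 2) * ∏ i ∈ Finset.range n, (if Even i then q ^ (i + 1) + 1 else q ^ (i + 1) - 1)

theorem sum_id (n : ℕ) : n * (n - 1) / 2 + n * (n + 1) / 2 = n ^ 2 := by
  rcases n with _ | n
  · rfl
  · rw [Nat.add_sub_cancel]
    obtain ⟨k, hk⟩ := Nat.even_mul_succ_self n
    have h1 : (n + 1) * n = 2 * k := by rw [mul_comm, hk]; ring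
    have h2 : (n + 1) * (n + 1 + 1) = 2 * (k + (n + 1)) := by
      have : (n + 1) * (n + 1 + 1) = (n + 1) * n + 2 * (n + 1) := by ring
      rw [this, h1]; ring
    have h3 : (n + 1) ^ 2 = (n + 1) * n + (n + 1) := by ring
    rw [h3, h1, h2, Nat.mul_div_cancel_left _ two_pos, Nat.mul_div_cancel_left _ two_pos]
    ring

theorem pow_le_W {q : ℕ} (hq : 2 ≤ q) : ∀ k : ℕ,
    q ^ (k * (2 * k + 1)) ≤ ∏ i ∈ Finset.range (2 * k), (if Even i then q ^ (i + 1) + 1 else q ^ (i + 1) - 1) ∧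
    q ^ ((2 * k + 1) * (k + 1)) ≤
      ∏ i ∈ Finset.range (2 * k + 1), (if Even i then q ^ (i + 1) + 1 else q ^ (i + 1) - 1) := by
  intro k
  induction k with
  | zero => simp
  | succ k ih =>
    have h1 : q ^ ((k + 1) * (2 * (k + 1) + 1)) ≤
        ∏ i ∈ Finset.range (2 * (k + 1)), (if Even i then q ^ (i + 1) + 1 else q ^ (i + 1) - 1) := by
      rw [show 2 * (k + 1) = 2 * k + 1 + 1 by ring, Finset.prod_range_succ, Finset.prod_range_succ]
      have e1 : Even (2 * k) := ⟨k, by ring⟩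
      have e2 : ¬ Even (2 * k + 1) := by rw [Nat.not_even_iff_odd]; exact ⟨k, rfl⟩
      rw [if_pos e1, if_neg e2, mul_assoc]
      have h2 : q ^ (4 * k + 3) ≤ (q ^ (2 * k + 1) + 1) * (q ^ (2 * k + 1 + 1) - 1) := by
        set y := q ^ (2 * k + 1) with hy
        have hy1 : 1 ≤ y := Nat.one_le_pow _ _ (by omega)
        have e3 : q ^ (2 * k + 1 + 1) = y * q := by rw [pow_succ]
        have e4 : q ^ (4 * k + 3) = y * y * q := by
          rw [hy, ← pow_add, ← pow_succ]; congr 1; ring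
        rw [e3, e4]
        obtain ⟨z, hz⟩ := Nat.exists_eq_add_of_le' (show 1 ≤ y * q by nlinarith)
        rw [hz, Nat.add_sub_cancel]
        have : y * y * q = y * (z + 1) := by rw [← hz]; ring
        rw [this]
        nlinarith
      calc q ^ ((k + 1) * (2 * k + 1 + 1 + 1)) = q ^ (k * (2 * k + 1)) * q ^ (4 * k + 3) := by
            rw [← pow_add]; congr 1; ring
        _ ≤ _ := Nat.mul_le_mul ih.1 h2
    refine ⟨h1, ?_⟩
    rw [Finset.prod_range_succ]
    have e1 : Even (2 * (k + 1)) := ⟨k + 1, by ring⟩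
    rw [if_pos e1]
    calc q ^ ((2 * (k + 1) + 1) * (k + 1 + 1)) = q ^ ((k + 1) * (2 * (k + 1) + 1)) * q ^ (2 * (k + 1) + 1) := by
          rw [← pow_add]; congr 1; ring
      _ ≤ _ := Nat.mul_le_mul h1 (by omega)

theorem pow_le_PU {q : ℕ} (hq : 2 ≤ q) (n : ℕ) : q ^ (n ^ 2) ≤ PU q n := by
  unfold PU
  rw [← sum_id n, pow_add]
  apply Nat.mul_le_mul_left
  rcases Nat.even_or_odd' n with ⟨k, rfl | rfl⟩
  · have : 2 * k * (2 * k + 1) / 2 = k * (2 * k + 1) := by
      rw [mul_assoc, Nat.mul_div_cancel_left _ two_pos]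
    rw [this]
    exact (pow_le_W hq k).1
  · have : (2 * k + 1) * (2 * k + 1 + 1) / 2 = (2 * k + 1) * (k + 1) := by
      rw [show (2 * k + 1) * (2 * k + 1 + 1) = 2 * ((2 * k + 1) * (k + 1)) by ring, Nat.mul_div_cancel_left _ two_pos]
    rw [this]
    exact (pow_le_W hq k).2

theorem pow5_le {q : ℕ} (hq : 2 ≤ q) : (q + 1) ^ 5 ≤ q ^ 9 := by
  have h5 : (q + 1) ^ 3 ≤ q ^ 5 := by
    obtain ⟨t, rfl⟩ := Nat.exists_eq_add_of_le hq
    ring_nf
    nlinarith [Nat.zero_le t, Nat.zero_le (t ^ 2), Nat.zero_le (t ^ 3), Nat.zero_le (t ^ 4), Nat.zero_le (t ^ 5)]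
  calc (q + 1) ^ 5 = (q + 1) ^ 3 * (q + 1) ^ 2 := by ring
    _ ≤ q ^ 5 * (q ^ 2) ^ 2 := Nat.mul_le_mul h5 (Nat.pow_le_pow_left (by nlinarith) 2)
    _ = _ := by ring

theorem γ_eq {q n : ℕ} (hq : 2 ≤ q) (hn : 4 ≤ n) (h : q = 2 → 6 ≤ n) : γ q n = q ^ (n ^ 2 / 4) := by
  apply max_eq_right
  by_cases hn6 : 6 ≤ n
  · obtain ⟨m, rfl⟩ := Nat.exists_eq_add_of_le hn6
    have e : 6 + m - 1 = 5 + m := by omega
    rw [e, pow_add]
    calc (q + 1) ^ 5 * (q + 1) ^ m ≤ q ^ 9 * (q ^ 2) ^ m :=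
          Nat.mul_le_mul (pow5_le hq) (Nat.pow_le_pow_left (by nlinarith) m)
      _ = q ^ (9 + 2 * m) := by rw [← pow_mul, ← pow_add]
      _ ≤ _ := by
        apply Nat.pow_le_pow_right (by omega)
        have : (6 + m) ^ 2 = 36 + 12 * m + m ^ 2 := by ring
        rw [this]
        omega
  · have hq3 : 3 ≤ q := by
      by_contra hlt
      have : q = 2 := by omega
      have := h this
      omega
    have h3 : (q + 1) ^ 3 ≤ q ^ 4 := by
      obtain ⟨t, rfl⟩ := Nat.exists_eq_add_of_le hq3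
      ring_nf
      nlinarith [Nat.zero_le t, Nat.zero_le (t ^ 2), Nat.zero_le (t ^ 3), Nat.zero_le (t ^ 4)]
    have : n = 4 ∨ n = 5 := by omega
    rcases this with rfl | rfl
    · norm_num
      exact h3
    · norm_num
      calc (q + 1) ^ 4 = (q + 1) ^ 3 * (q + 1) := by ring
        _ ≤ q ^ 4 * q ^ 2 := Nat.mul_le_mul h3 (by nlinarith)
        _ = q ^ 6 := by ring

theorem key_num {q n : ℕ} (hq : 2 ≤ q) (hn : 3 ≤ n) (h32 : ¬ (n = 3 ∧ q = 2)) :
    γ q n ^ 3 * ((q + 1) * Nat.gcd n (q + 1)) < PU q n := by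
  have hd1 : Nat.gcd n (q + 1) ≤ q + 1 := Nat.gcd_le_right _ (by omega)
  have hdn : Nat.gcd n (q + 1) ≤ n := Nat.gcd_le_left _ (by omega)
  by_cases h : 4 ≤ n ∧ (q = 2 → 6 ≤ n)
  · rw [γ_eq hq h.1 h.2]
    refine lt_of_lt_of_le ?_ (pow_le_PU hq n)
    have h1 : (q + 1) * Nat.gcd n (q + 1) < q ^ 4 := by
      calc (q + 1) * Nat.gcd n (q + 1) ≤ (q + 1) * (q + 1) := Nat.mul_le_mul_left _ hd1
        _ < q ^ 2 * q ^ 2 := Nat.mul_lt_mul'' (by nlinarith) (by nlinarith)
        _ = q ^ 4 := by ring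
    calc (q ^ (n ^ 2 / 4)) ^ 3 * ((q + 1) * Nat.gcd n (q + 1)) < (q ^ (n ^ 2 / 4)) ^ 3 * q ^ 4 :=
          Nat.mul_lt_mul_of_pos_left h1 (by positivity)
      _ = q ^ (n ^ 2 / 4 * 3 + 4) := by rw [← pow_mul, ← pow_add]
      _ ≤ q ^ (n ^ 2) := by
        apply Nat.pow_le_pow_right (by omega)
        have : 4 ^ 2 ≤ n ^ 2 := Nat.pow_le_pow_left h.1 2
        omega
  · have h' : n = 3 ∨ (n = 4 ∧ q = 2) ∨ (n = 5 ∧ q = 2) := by
      by_contra hno
      apply h
      push Not at hno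
      omega
    rcases h' with rfl | ⟨rfl, rfl⟩ | ⟨rfl, rfl⟩
    · have hq3 : 3 ≤ q := by
        by_contra hlt
        exact h32 ⟨rfl, by omega⟩
      have hγ : γ q 3 = (q + 1) ^ 2 := by
        unfold γ
        apply max_eq_left
        norm_num
        exact Nat.pow_le_pow_left (by omega) 2
      have hP : PU q 3 = q ^ 3 * ((q + 1) * (q ^ 2 - 1) * (q ^ 3 + 1)) := by
        simp [PU, Finset.prod_range_succ]
      rw [hγ, hP]
      have e1 : q ^ 2 - 1 = (q - 1) * (q + 1) := by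
        obtain ⟨t, rfl⟩ := Nat.exists_eq_add_of_le' (show 1 ≤ q by omega)
        rw [Nat.add_sub_cancel]
        have : (t + 1) ^ 2 = t * (t + 1 + 1) + 1 := by ring
        omega
      obtain ⟨t, ht⟩ := Nat.exists_eq_add_of_le hq3
      have e2 : q - 1 = t + 2 := by omega
      have e3 : q ^ 3 + 1 = (q + 1) * (t ^ 2 + 5 * t + 7) := by rw [ht]; ring
      rw [e1, e2, e3]
      have h1 : (q + 1) ^ 4 * Nat.gcd 3 (q + 1) < q ^ 3 * (t + 2) * (t ^ 2 + 5 * t + 7) := by
        by_cases ht2 : t ≤ 1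
        · have : Nat.gcd 3 (q + 1) = 1 := by
            interval_cases t
            · subst ht; rfl
            · subst ht; rfl
          rw [this]
          interval_cases t
          · subst ht; norm_num
          · subst ht; norm_num
        · calc (q + 1) ^ 4 * Nat.gcd 3 (q + 1) ≤ (q + 1) ^ 4 * 3 := Nat.mul_le_mul_left _ hdn
            _ < _ := by
              obtain ⟨s, rfl⟩ := Nat.exists_eq_add_of_le (show 2 ≤ t by omega)
              rw [ht]
              ring_nf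
              nlinarith [Nat.zero_le s, Nat.zero_le (s ^ 2), Nat.zero_le (s ^ 3), Nat.zero_le (s ^ 4), Nat.zero_le (s ^ 5),
                Nat.zero_le (s ^ 6)]
      calc ((q + 1) ^ 2) ^ 3 * ((q + 1) * Nat.gcd 3 (q + 1)) = (q + 1) ^ 3 * ((q + 1) ^ 4 * Nat.gcd 3 (q + 1)) := by ring
        _ < (q + 1) ^ 3 * (q ^ 3 * (t + 2) * (t ^ 2 + 5 * t + 7)) := Nat.mul_lt_mul_of_pos_left h1 (by positivity)
        _ = _ := by ring
    · decide
    · decide

/-- **The row `PSU_n(q)`, `n ≥ 3`.** -/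
theorem ab3_PSU {F : Type*} [Field F] [Fintype F] {n q : ℕ} (hF : Fintype.card F = q ^ 2) (hn : 3 ≤ n)
    (h32 : ¬ (n = 3 ∧ q = 2)) : Ab3 (PSU n F q) := by
  intro A hA
  have h1 := card_le hF hn A hA
  have hq2 : 2 ≤ q := two_le hF
  have h2 := S0278.result hF n (by omega)
  have h3 := (center (SU n F q)).card_eq_card_quotient_mul_card_subgroup
  rw [S0279.result hF n hn] at h3
  rw [h3] at h2
  have h4 := key_num hq2 hn h32
  rw [PU, ← h2] at h4
  have h5 : (q + 1) * Nat.gcd n (q + 1) * Nat.card A ^ 3 < (q + 1) * Nat.gcd n (q + 1) * Nat.card (PSU n F q) := by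
    calc (q + 1) * Nat.gcd n (q + 1) * Nat.card A ^ 3 ≤ (q + 1) * Nat.gcd n (q + 1) * γ q n ^ 3 :=
          Nat.mul_le_mul_left _ (Nat.pow_le_pow_left h1 3)
      _ = γ q n ^ 3 * ((q + 1) * Nat.gcd n (q + 1)) := by ring
      _ < _ := h4
      _ = _ := by ring
  exact Nat.lt_of_mul_lt_mul_left h5

end Cfsg.Agent.H498.Ab.RowU
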