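import Cfsg.Agent.H498.Ab.Aba
import Cfsg.Prelude.Def_Classification2
import Cfsg.Agent.H753.AbSz
import Cfsg.Agent.H753.AbRee

/-!
# Assembly of S2501
-/

set_option autoImplicit false

namespace Cfsg.Agent.H498.Ab.Asm

open Cfsg Cfsg.Agent.H498.Ab.RowA

universe u

/-- the rows which are proved elsewhere -/
structure Rows : Prop where
  psp : ∀ (G : Type u) [Group G] [Finite G] [IsSimpleGroup G], IsPSp G → Ab3 G
  oodd : ∀ (G : Type u) [Group G] [Finite G] [IsSimpleGroup G], IsPOmegaOdd G → Ab3 G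
  oplus : ∀ (G : Type u) [Group G] [Finite G] [IsSimpleGroup G], IsPOmegaPlus G → Ab3 G
  ominus : ∀ (G : Type u) [Group G] [Finite G] [IsSimpleGroup G], IsPOmegaMinus G → Ab3 G
  g2 : ∀ (G : Type u) [Group G] [Finite G] [IsSimpleGroup G], Lie.IsoChevG2 G → Ab3 G
  f4 : ∀ (G : Type u) [Group G] [Finite G] [IsSimpleGroup G], Lie.IsoF4 G → Ab3 G
  e6 : ∀ (G : Type u) [Group G] [Finite G] [IsSimpleGroup G], Lie.IsoChevE6 G → Ab3 G
  e7 : ∀ (G : Type u) [Group G] [Finite G] [IsSimpleGroup G], Lie.IsoE7 G → Ab3 G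
  e8 : ∀ (G : Type u) [Group G] [Finite G] [IsSimpleGroup G], Lie.IsoE8 G → Ab3 G
  te6 : ∀ (G : Type u) [Group G] [Finite G] [IsSimpleGroup G], Lie.Iso2E6 G → Ab3 G
  td4 : ∀ (G : Type u) [Group G] [Finite G] [IsSimpleGroup G], Lie.Iso3D4 G → Ab3 G
  tf4 : ∀ (G : Type u) [Group G] [Finite G] [IsSimpleGroup G], Lie.Iso2F4 G → Ab3 G
  tits : ∀ (G : Type u) [Group G] [Finite G] [IsSimpleGroup G], Lie.IsoTits G → Ab3 G
  spor : ∀ (G : Type u) [Group G] [Finite G] [IsSimpleGroup G], IsSporadicGroup G → Ab3 G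

theorem main (R : Rows.{u}) {G : Type u} [Group G] [Finite G] [IsSimpleGroup G] (hG : ¬ IsMulCommutative G)
    (hL : NotL2 G) (hK : IsKnownSimple' G) : Ab3 G := by
  rcases hK with h | h | h | h | h | h | h | h | h | h
  · exfalso
    apply hG
    have : Fact (Nat.card G).Prime := ⟨h⟩
    exact (isCyclic_of_prime_card (rfl : Nat.card G = Nat.card G)).commutative
  · exact ab3_isAlternating h hL
  · exact ab3_isPSL h hL
  · exact R.psp G h
  · exact ab3_isPSU h
  · exact R.oodd G h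
  · exact R.oplus G h
  · exact R.ominus G h
  · rcases h with h | h | h | h | h | h | h | h | h | h | h
    · exact R.g2 G h
    · exact R.f4 G h
    · exact R.e6 G h
    · exact R.e7 G h
    · exact R.e8 G h
    · exact R.te6 G h
    · exact R.td4 G h
    · exact H753.AbSz.ab3_Sz h
    · exact H753.AbRee.ab3_Ree h
    · exact R.tf4 G h
    · exact R.tits G h
  · exact R.spor G h

end Cfsg.Agent.H498.Ab.Asm
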