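import Cfsg.Agent.H498.Ab.RowD
import Cfsg.Agent.S0399
import Cfsg.Agent.H993.AbMathieu
import Cfsg.Agent.H993.AbJanko
import Cfsg.Agent.H993.AbJThree
import Cfsg.Agent.H993.AbHS
import Cfsg.Agent.H993.AbMcL
import Cfsg.Agent.H993.AbCoThree
import Cfsg.Agent.H157.Ab.Co1
import Cfsg.Agent.H157.Ab.Co2
import Cfsg.Agent.H805.AbHe
import Cfsg.Agent.H805.AbON
import Cfsg.Agent.H805.AbJ4
import Cfsg.Agent.H805.AbRu
import Cfsg.Agent.H805.AbSuz
import Cfsg.Agent.H805.AbTits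
import Cfsg.Agent.H513.AbLy
import Cfsg.Agent.H513.AbTh
import Cfsg.Agent.H199.AbM
import Cfsg.Agent.H199.AbB
import Cfsg.Agent.H199.AbFi22
import Cfsg.Agent.H199.AbFi23
import Cfsg.Agent.H199.AbFi24

/-!
# S2501: sporadic rows together
-/

set_option autoImplicit false

namespace Cfsg.Agent.H498.Ab.Asm

open Cfsg

universe u

theorem ab3_co1 : Ab3 Spor.Co1 := by
  have h : Spor.IsoCo1 Spor.Co1 := ⟨MulEquiv.refl _⟩
  have hs : IsSimpleGroup Spor.Co1 := Cfsg.Agent.S0399.result.1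
  exact H157.Ab.CoOne.ab3_Co1 h

theorem ab3_sporadic (hHN : ∀ (G : Type u) [Group G] [Finite G] [IsSimpleGroup G], Spor.IsoHN G → Ab3 G)
    {G : Type u} [Group G] [Finite G] [IsSimpleGroup G] (h : IsSporadicGroup G) : Ab3 G := by
  rcases h with h | h | h | h | h | h | h | h | h | h | h | h | h | h | h | h | h | h | h | h | h | h | h | h | h | h
  · exact H993.AbMathieu.ab3_M11 h
  · exact H993.AbMathieu.ab3_M12 h
  · exact H993.AbMathieu.ab3_M22 h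
  · exact H993.AbMathieu.ab3_M23 h
  · exact H993.AbMathieu.ab3_M24 h
  · exact H993.AbJanko.ab3_J1 h
  · exact H993.AbJanko.ab3_J2 h
  · exact H993.AbJThree.ab3_J3 h
  · exact H805.Ab.ab3_J4 h
  · exact H157.Ab.CoOne.ab3_Co1 h
  · exact H157.Ab.CoTwo.ab3_Co2 h
  · exact H993.AbCoThree.ab3_Co3 h
  · exact H993.AbMcL.ab3_McL h
  · exact H993.AbHS.ab3_HS h
  · exact H805.Ab.ab3_Suz h
  · exact H805.Ab.ab3_He h
  · exact H805.Ab.ab3_Ru h
  · exact H805.Ab.ab3_ON h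
  · exact H513.AbLy.ab3_Ly h
  · exact H199.AbFi22.ab3_Fi22 h
  · exact H199.AbFi23.ab3_Fi23 h
  · exact H199.AbFi24.ab3_Fi24p h
  · exact hHN G h
  · exact H513.AbTh.ab3_Th h
  · exact H199.AbB.ab3_B ab3_co1 h
  · exact H199.AbM.ab3_M h

theorem Rows2.of_HN (hHN : ∀ (G : Type u) [Group G] [Finite G] [IsSimpleGroup G], Spor.IsoHN G → Ab3 G) : Rows2.{u} where
  tits _ _ _ _ h := H805.Ab.ab3_Tits h
  spor _ _ _ _ h := ab3_sporadic hHN h

end Cfsg.Agent.H498.Ab.Asm
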