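import Cfsg.Agent.H498.Ab.Uni
import Cfsg.Agent.H498.Ab.Def

/-!
# Groups of linear maps with scalar commutators

`ρ : G →* R` injective, all commutators scalars. There are an abelian subgroup `B ≥ Z(G)` and `h ≥ 1` with
`|G| ≤ h² |Z(G)|` and `|F[Z(G)]| ^ h ≤ |F[B]|` (`heis`).
-/

set_option autoImplicit false
set_option linter.unusedSectionVars false

namespace Cfsg.Agent.H498.Ab.Heis

open Subgroup

section heis

variable {F : Type*} [Field F] {R : Type*} [Ring R] [Algebra F R] [Nontrivial R] {G : Type*} [Group G]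

theorem smul_inj {u : R} (hu : IsUnit u) {a b : F} (h : a • u = b • u) : a = b := by
  obtain ⟨v, rfl⟩ := hu
  have h1 : a • (1 : R) = b • (1 : R) := by
    have := congrArg (· * (↑v⁻¹ : R)) h
    simpa only [smul_mul_assoc, Units.mul_inv] using this
  rw [← Algebra.algebraMap_eq_smul_one, ← Algebra.algebraMap_eq_smul_one] at h1
  exact (algebraMap F R).injective h1

variable {ρ : G →* R} (hc : ∀ x y, ∃ c : F, ρ x * ρ y = c • (ρ y * ρ x))

/-- the commutator scalar -/
noncomputable def cc (x y : G) : F := (hc x y).choose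

theorem cc_spec (x y : G) : ρ x * ρ y = cc hc x y • (ρ y * ρ x) := (hc x y).choose_spec

theorem isUnit_rho (ρ : G →* R) (x : G) : IsUnit (ρ x) := (Group.isUnit x).map ρ

theorem cc_unique {x y : G} {c : F} (h : ρ x * ρ y = c • (ρ y * ρ x)) : cc hc x y = c :=
  smul_inj ((isUnit_rho ρ y).mul (isUnit_rho ρ x)) ((cc_spec hc x y).symm.trans h)

/-- the character `x ↦ [x, y]` -/
noncomputable def ψ (y : G) : G →* F where
  toFun x := cc hc x y
  map_one' := cc_unique hc (by simp)
  map_mul' x x' := cc_unique hc (by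
    rw [map_mul, mul_assoc, cc_spec hc x' y, mul_smul_comm, ← mul_assoc, cc_spec hc x y, smul_mul_assoc, smul_smul,
      mul_assoc, mul_comm (cc hc x' y)])

/-- the character `y ↦ [x, y]` -/
noncomputable def χ (x : G) : G →* F where
  toFun y := cc hc x y
  map_one' := cc_unique hc (by simp)
  map_mul' y y' := cc_unique hc (by
    rw [map_mul, ← mul_assoc, cc_spec hc x y, smul_mul_assoc, mul_assoc, cc_spec hc x y', mul_smul_comm, smul_smul,
      mul_assoc])

variable (hρ : Function.Injective ρ)

include hρ in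
theorem cc_eq_one {x y : G} : cc hc x y = 1 ↔ x * y = y * x := by
  constructor
  · intro h
    apply hρ
    rw [map_mul, map_mul, cc_spec hc x y, h, one_smul]
  · intro h
    apply cc_unique
    rw [one_smul, ← map_mul, ← map_mul, h]

include hρ in
theorem cc_congr {x x' y : G} (h : cc hc x y = cc hc x' y) : (x⁻¹ * x') * y = y * (x⁻¹ * x') := by
  rw [← cc_eq_one hc hρ]
  show ψ hc y (x⁻¹ * x') = 1
  have h1 : ψ hc y x = ψ hc y x' := h
  have h2 : ψ hc y (x⁻¹ * x) = 1 := by rw [inv_mul_cancel, map_one]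
  rw [map_mul] at h2 ⊢
  rw [← h1]
  exact h2

include hρ in
theorem cc_congr' {x y y' : G} (h : cc hc x y = cc hc x y') : x * (y⁻¹ * y') = (y⁻¹ * y') * x := by
  rw [← cc_eq_one hc hρ]
  show χ hc x (y⁻¹ * y') = 1
  have h1 : χ hc x y = χ hc x y' := h
  have h2 : χ hc x (y⁻¹ * y) = 1 := by rw [inv_mul_cancel, map_one]
  rw [map_mul] at h2 ⊢
  rw [← h1]
  exact h2

/-- the number of characters -/
theorem card_hom_le (K : Type*) [Group K] [Finite K] : Finite (K →* F) ∧ Nat.card (K →* F) ≤ Nat.card K := by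
  have h1 := linearIndependent_monoidHom K F
  have h2 : Finite (K →* F) := h1.finite
  refine ⟨h2, ?_⟩
  have := Fintype.ofFinite (K →* F)
  have := Fintype.ofFinite K
  have h3 := h1.fintype_card_le_finrank
  rw [Module.finrank_fintype_fun_eq_card] at h3
  rw [Nat.card_eq_fintype_card, Nat.card_eq_fintype_card]
  exact h3

/-- a maximal abelian subgroup containing the centre -/
theorem exists_max (G : Type*) [Group G] [Finite G] : ∃ B : Subgroup G, center G ≤ B ∧ IsMulCommutative B ∧
    centralizer (B : Set G) = B := by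
  have hfin : {B : Subgroup G | IsMulCommutative B}.Finite := Set.toFinite _
  have h0 : center G ∈ {B : Subgroup G | IsMulCommutative B} := by
    show IsMulCommutative (center G)
    rw [comm_iff]
    intro x hx y _
    exact (mem_center_iff.1 hx y).symm
  obtain ⟨B, hB, hmax⟩ := hfin.exists_le_maximal h0
  refine ⟨B, hB, hmax.1, le_antisymm ?_ ?_⟩
  · intro x hx
    have h1 : IsMulCommutative (B ⊔ zpowers x : Subgroup G) := by
      have h2 : (B ⊔ zpowers x : Subgroup G) = closure ((B : Set G) ∪ {x}) := by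
        rw [Subgroup.closure_union, Subgroup.closure_eq, zpowers_eq_closure]
      rw [h2, comm_iff]
      have h3 : ∀ a ∈ (B : Set G) ∪ {x}, ∀ b ∈ (B : Set G) ∪ {x}, a * b = b * a := by
        rintro a (ha | ha) b (hb | hb)
        · exact comm_iff.1 hmax.1 a ha b hb
        · rw [Set.mem_singleton_iff.1 hb]
          exact mem_centralizer_iff.1 hx a ha
        · rw [Set.mem_singleton_iff.1 ha]
          exact (mem_centralizer_iff.1 hx b hb).symm
        · rw [Set.mem_singleton_iff.1 ha, Set.mem_singleton_iff.1 hb]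
      have h4 : closure ((B : Set G) ∪ {x}) ≤ centralizer (closure ((B : Set G) ∪ {x}) : Set G) := by
        rw [Subgroup.centralizer_closure, Subgroup.closure_le]
        intro a ha
        rw [SetLike.mem_coe, mem_centralizer_iff]
        intro b hb
        exact h3 b hb a ha
      intro a ha b hb
      exact mem_centralizer_iff.1 (h4 hb) a ha
    exact hmax.2 h1 le_sup_left ((le_sup_right : zpowers x ≤ _) (mem_zpowers x))
  · intro x hx
    rw [mem_centralizer_iff]
    intro y hy
    exact comm_iff.1 hmax.1 y hy x hx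

include hρ in
/-- linear independence of representatives of `B / Z(G)` over `F[Z(G)]` -/
theorem indep {ι : Type*} [Fintype ι] (t : ι → G) (ht : Function.Injective fun i => ψ hc (t i))
    {v : ι → R} (hv : ∀ i, ∀ x : G, ρ x * v i = (cc hc x (t i)) • (v i * ρ x)) (h0 : ∑ i, v i = 0) : ∀ i, v i = 0 := by
  classical
  -- for every `x` the sum of `ψ_i(x) v_i` vanishes
  have h1 : ∀ x : G, ∑ i, cc hc x (t i) • v i = 0 := by
    intro x
    have h2 : (∑ i, cc hc x (t i) • v i) * ρ x = 0 := by
      rw [Finset.sum_mul]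
      have h3 : ρ x * ∑ i, v i = 0 := by rw [h0, mul_zero]
      rw [Finset.mul_sum] at h3
      rw [← h3]
      refine Finset.sum_congr rfl fun i _ => ?_
      rw [hv i x, smul_mul_assoc]
    obtain ⟨u, hu⟩ := isUnit_rho ρ x
    rw [← hu] at h2
    have := congrArg (· * (↑u⁻¹ : R)) h2
    simpa only [Units.mul_inv_cancel_right, zero_mul] using this
  have h2 := (linearIndependent_monoidHom G F).comp (fun i => ψ hc (t i)) ht
  intro i
  by_contra hne
  -- a functional
  obtain ⟨l, hl⟩ : ∃ l : R →ₗ[F] F, l (v i) ≠ 0 := by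
    by_contra hno
    push Not at hno
    exact hne ((Module.forall_dual_apply_eq_zero_iff F (v i)).1 hno)
  apply hl
  have h3 := Fintype.linearIndependent_iff.1 h2 (fun i => l (v i)) (by
    funext x
    rw [Finset.sum_apply]
    have h4 := congrArg l (h1 x)
    rw [map_sum, map_zero] at h4
    rw [Pi.zero_apply, ← h4]
    refine Finset.sum_congr rfl fun i _ => ?_
    rw [map_smul, Pi.smul_apply, smul_eq_mul, smul_eq_mul, mul_comm]
    rfl)
  exact h3 i

variable [Finite R] [Finite G]

include hρ hc in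
/-- **Groups with scalar commutators.** -/
theorem heis : ∃ (B : Subgroup G) (h : ℕ), center G ≤ B ∧ IsMulCommutative B ∧ 1 ≤ h ∧
    Nat.card G ≤ h ^ 2 * Nat.card (center G) ∧
    Nat.card (Algebra.adjoin F (ρ '' (center G : Set G))) ^ h ≤ Nat.card (Algebra.adjoin F (ρ '' (B : Set G))) ∧
    (∀ k : ℕ, (∀ x y : G, ∀ c : F, ρ x * ρ y = c • (ρ y * ρ x) → c ^ k = 1) → ∀ r : ℕ, r.Prime → r ∣ h → r ∣ k) := by
  obtain ⟨B, hZB, hB, hCB⟩ := exists_max G
  have hBc := comm_iff.1 hB
  let Z' : Subgroup B := (center G).subgroupOf B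
  have hZn : Z'.Normal := by
    refine ⟨fun z hz x => ?_⟩
    have hz' : z.1 ∈ center G := hz
    show (x * z * x⁻¹).1 ∈ center G
    have : (x * z * x⁻¹).1 = z.1 := by
      show x.1 * z.1 * x.1⁻¹ = z.1
      rw [mem_center_iff.1 hz' x.1, mul_inv_cancel_right]
    rw [this]
    exact hz'
  refine ⟨B, Nat.card (B ⧸ Z'), hZB, hB, Nat.card_pos, ?_, ?_, ?_⟩
  · -- the order
    have hZ1 : ∀ x z : G, z ∈ center G → cc hc x z = 1 := by
      intro x z hz
      rw [cc_eq_one hc hρ]
      exact mem_center_iff.1 hz x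
    let f : G → (B ⧸ Z' →* F) := fun x => QuotientGroup.lift Z' ((χ hc x).comp B.subtype) (by
      intro z hz
      exact hZ1 x z.1 hz)
    have hf : ∀ (x : G) (b : B), f x (QuotientGroup.mk b) = cc hc x b := fun x b => rfl
    have hff : ∀ x x' : G, f x = f x' ↔ x⁻¹ * x' ∈ B := by
      intro x x'
      constructor
      · intro h
        rw [← hCB, mem_centralizer_iff]
        intro b hb
        have h1 : cc hc x b = cc hc x' b := by
          rw [← hf x ⟨b, hb⟩, ← hf x' ⟨b, hb⟩, h]
        exact (cc_congr hc hρ h1).symm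
      · intro h
        apply MonoidHom.ext
        intro b
        obtain ⟨b, rfl⟩ := QuotientGroup.mk_surjective b
        rw [hf, hf]
        have h1 : cc hc (x⁻¹ * x') b = 1 := by
          rw [cc_eq_one hc hρ]
          exact hBc _ h _ b.2
        show cc hc x b = ψ hc b x'
        have h2 : x' = x * (x⁻¹ * x') := by group
        rw [h2, map_mul]
        show cc hc x b = cc hc x b * cc hc (x⁻¹ * x') b
        rw [h1, mul_one]
    obtain ⟨hfin, hle⟩ := card_hom_le (F := F) (B ⧸ Z')
    have h1 : Nat.card (G ⧸ B) ≤ Nat.card (B ⧸ Z') := by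
      refine le_trans ?_ hle
      refine Nat.card_le_card_of_injective (fun x : G ⧸ B => Quotient.liftOn' x f (fun a b hab => ?_)) ?_
      · rw [hff]
        exact QuotientGroup.leftRel_apply.1 hab
      · intro x y
        obtain ⟨x, rfl⟩ := QuotientGroup.mk_surjective x
        obtain ⟨y, rfl⟩ := QuotientGroup.mk_surjective y
        intro h
        have h' : f x = f y := h
        rw [hff] at h'
        exact QuotientGroup.eq.2 h'
    have h2 : Nat.card G = Nat.card (G ⧸ B) * Nat.card B := B.card_eq_card_quotient_mul_card_subgroup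
    have h3 : Nat.card B = Nat.card (B ⧸ Z') * Nat.card Z' := Z'.card_eq_card_quotient_mul_card_subgroup
    have h4 : Nat.card Z' = Nat.card (center G) := Nat.card_congr (Subgroup.subgroupOfEquivOfLe hZB).toEquiv
    rw [h2, h3, h4]
    calc Nat.card (G ⧸ B) * (Nat.card (B ⧸ Z') * Nat.card (center G)) ≤
        Nat.card (B ⧸ Z') * (Nat.card (B ⧸ Z') * Nat.card (center G)) := Nat.mul_le_mul_right _ h1
      _ = _ := by ring
  · -- the algebra
    classical
    have := Fintype.ofFinite (B ⧸ Z')
    let t : (B ⧸ Z') → G := fun i => (Quotient.out i : B).1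
    have htB : ∀ i, t i ∈ B := fun i => (Quotient.out i : B).2
    have ht : Function.Injective fun i => ψ hc (t i) := by
      intro i j hij
      have h1 : (t i)⁻¹ * t j ∈ center G := by
        rw [mem_center_iff]
        intro x
        exact cc_congr' hc hρ (DFunLike.congr_fun hij x)
      have h2 : (QuotientGroup.mk (Quotient.out i : B) : B ⧸ Z') = QuotientGroup.mk (Quotient.out j : B) := by
        rw [QuotientGroup.eq]
        exact h1
      rwa [QuotientGroup.out_eq', QuotientGroup.out_eq'] at h2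
    set C₁ := Algebra.adjoin F (ρ '' (center G : Set G)) with hC₁
    set C := Algebra.adjoin F (ρ '' (B : Set G)) with hC
    have hle : C₁ ≤ C := Algebra.adjoin_mono (Set.image_mono hZB)
    have hmem : ∀ i, ρ (t i) ∈ C := fun i => Algebra.subset_adjoin ⟨t i, htB i, rfl⟩
    have hcen : ∀ c ∈ C₁, ∀ x : G, ρ x * c = c * ρ x := by
      intro c hc' x
      induction hc' using Algebra.adjoin_induction with
      | mem y hy =>
        obtain ⟨z, hz, rfl⟩ := hy
        rw [← map_mul, ← map_mul, mem_center_iff.1 hz x]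
      | algebraMap r => exact (Algebra.commutes r (ρ x)).symm
      | add a b _ _ ha hb => rw [mul_add, add_mul, ha, hb]
      | mul a b _ _ ha hb => rw [← mul_assoc, ha, mul_assoc, hb, mul_assoc]
    have h1 : Nat.card C₁ ^ Nat.card (B ⧸ Z') = Nat.card ((B ⧸ Z') → C₁) := by
      rw [Nat.card_fun]
    rw [h1]
    refine Nat.card_le_card_of_injective (fun f : (B ⧸ Z') → C₁ => (∑ i, ⟨(f i).1, hle (f i).2⟩ * ⟨ρ (t i), hmem i⟩ : C)) ?_
    intro f g hfg
    have h2 : ∑ i, (((f i).1 - (g i).1) * ρ (t i)) = 0 := by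
      have h3 := congrArg Subtype.val hfg
      simp only [AddSubmonoidClass.coe_finsetSum, MulMemClass.mk_mul_mk] at h3
      simp only [sub_mul, Finset.sum_sub_distrib]
      rw [sub_eq_zero]
      exact h3
    have h3 := indep hc hρ t ht (v := fun i => ((f i).1 - (g i).1) * ρ (t i)) (fun i x => by
      have h4 := hcen _ (C₁.sub_mem (f i).2 (g i).2) x
      calc ρ x * (((f i).1 - (g i).1) * ρ (t i)) = (ρ x * ((f i).1 - (g i).1)) * ρ (t i) := by rw [mul_assoc]
        _ = ((f i).1 - (g i).1) * (ρ x * ρ (t i)) := by rw [h4, mul_assoc]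
        _ = _ := by rw [cc_spec hc x (t i), mul_smul_comm, mul_assoc]) h2
    funext i
    apply Subtype.ext
    have h4 := h3 i
    obtain ⟨u, hu⟩ := isUnit_rho ρ (t i)
    rw [← hu] at h4
    have h5 := congrArg (· * (↑u⁻¹ : R)) h4
    simp only [Units.mul_inv_cancel_right, zero_mul] at h5
    exact sub_eq_zero.1 h5
  · -- the exponent
    intro k hk r hr hrh
    have : Fact r.Prime := ⟨hr⟩
    obtain ⟨b, hb⟩ := exists_prime_orderOf_dvd_card' (G := B ⧸ Z') r hrh
    rw [← hb]
    apply orderOf_dvd_of_pow_eq_one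
    obtain ⟨b, rfl⟩ := QuotientGroup.mk_surjective b
    rw [← QuotientGroup.mk_pow]
    rw [QuotientGroup.eq_one_iff]
    show (b ^ k).1 ∈ center G
    rw [mem_center_iff]
    intro x
    rw [← cc_eq_one hc hρ]
    show χ hc x (b.1 ^ k) = 1
    rw [map_pow]
    exact hk x b.1 _ (cc_spec hc x b.1)

end heis

end Cfsg.Agent.H498.Ab.Heis
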