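import Cfsg.Agent.H498.Ab.Schur

/-!
# Unitary elements of finite commutative algebras with involution

`C` a finite commutative ring, `s` an involutive automorphism, `U s = {c | c * s c = 1}`.

* `card_U_local` : `C` local, `η - s η` a unit, `F₀` a field of `q` elements in the fixed ring: `|U| q ≤ (q + 1) |C_s|`,
  `|C_s| ^ 2 = |C|`;
* `U_rec` : reduction to algebras without symmetric idempotents.
-/

set_option autoImplicit false
set_option linter.unusedSectionVars false

namespace Cfsg.Agent.H498.Ab.Inv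

open Cfsg.Agent.H498.Ab.Schur

universe u v w

/-- the unitary elements -/
def U {C : Type*} [CommRing C] (s : C ≃+* C) : Set C := {c | c * s c = 1}

/-! ### the local case -/

section loc

variable {C : Type v} [CommRing C] [Finite C] [IsLocalRing C] {s : C ≃+* C} (hs : ∀ c, s (s c) = c)

/-- the fixed ring -/
def Fix (s : C ≃+* C) : Set C := {c | s c = c}

include hs in
/-- `C = C_s + η C_s` -/
theorem card_fix {η : C} (hη : IsUnit (η - s η)) : Nat.card C = Nat.card (Fix s) ^ 2 := by
  obtain ⟨δ, hδ⟩ := hη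
  have hsδ : s (↑δ⁻¹ : C) = -↑δ⁻¹ := by
    have h1 : s (δ : C) = -δ := by rw [hδ, map_sub, hs]; ring
    have h2 : s (↑δ⁻¹ : C) * s δ = 1 := by rw [← map_mul, Units.inv_mul, map_one]
    have h3 : s (↑δ⁻¹ : C) * δ = -1 := by rw [h1] at h2; linear_combination -h2
    calc s (↑δ⁻¹ : C) = s (↑δ⁻¹ : C) * δ * ↑δ⁻¹ := by rw [Units.mul_inv_cancel_right]
      _ = _ := by rw [h3]; ring
  have hb : ∀ c : C, s ((c - s c) * ↑δ⁻¹) = (c - s c) * ↑δ⁻¹ := by
    intro c
    rw [map_mul, map_sub, hs, hsδ]
    ring
  rw [sq, ← Nat.card_prod]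
  refine Nat.card_congr
    { toFun := fun c => (⟨c - η * ((c - s c) * ↑δ⁻¹), ?_⟩, ⟨(c - s c) * ↑δ⁻¹, hb c⟩)
      invFun := fun x => x.1.1 + η * x.2.1
      left_inv := fun c => by simp
      right_inv := fun x => ?_ }
  · show s (c - η * ((c - s c) * ↑δ⁻¹)) = c - η * ((c - s c) * ↑δ⁻¹)
    rw [map_sub, map_mul, hb]
    have h1 : c - s c = (δ : C) * ((c - s c) * ↑δ⁻¹) := by
      rw [mul_comm (δ : C), Units.inv_mul_cancel_right]
    have h2 : s c = c - (η - s η) * ((c - s c) * ↑δ⁻¹) := by
      rw [← hδ, ← h1]; ring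
    rw [h2]
    have h3 : c - (c - (η - s η) * ((c - s c) * ↑δ⁻¹)) = (c - s c) := by rw [← hδ, ← h1]; ring
    rw [h3]
    ring
  · obtain ⟨⟨a, ha⟩, ⟨b, hb'⟩⟩ := x
    change s a = a at ha
    change s b = b at hb'
    have h1 : (a + η * b - s (a + η * b)) * ↑δ⁻¹ = b := by
      rw [map_add, map_mul, ha, hb']
      have : a + η * b - (a + s η * b) = b * δ := by rw [hδ]; ring
      rw [this, Units.mul_inv_cancel_right]
    apply Prod.ext
    · apply Subtype.ext
      show a + η * b - η * ((a + η * b - s (a + η * b)) * ↑δ⁻¹) = a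
      rw [h1]
      ring
    · apply Subtype.ext
      exact h1

include hs in
/-- `J = J_s + η J_s` -/
theorem card_fix_nonunit {η : C} (hη : IsUnit (η - s η)) :
    Nat.card {c : C | ¬ IsUnit c} = Nat.card {c : C | s c = c ∧ ¬ IsUnit c} ^ 2 := by
  obtain ⟨δ, hδ⟩ := hη
  have hsδ : s (↑δ⁻¹ : C) = -↑δ⁻¹ := by
    have h1 : s (δ : C) = -δ := by rw [hδ, map_sub, hs]; ring
    have h2 : s (↑δ⁻¹ : C) * s δ = 1 := by rw [← map_mul, Units.inv_mul, map_one]
    have h3 : s (↑δ⁻¹ : C) * δ = -1 := by rw [h1] at h2; linear_combination -h2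
    calc s (↑δ⁻¹ : C) = s (↑δ⁻¹ : C) * δ * ↑δ⁻¹ := by rw [Units.mul_inv_cancel_right]
      _ = _ := by rw [h3]; ring
  have hb : ∀ c : C, s ((c - s c) * ↑δ⁻¹) = (c - s c) * ↑δ⁻¹ := by
    intro c
    rw [map_mul, map_sub, hs, hsδ]
    ring
  have hsu : ∀ c : C, ¬ IsUnit c → ¬ IsUnit (s c) := by
    intro c hc h
    exact hc (by simpa [hs] using h.map s)
  have hadd : ∀ a b : C, ¬ IsUnit a → ¬ IsUnit b → ¬ IsUnit (a + b) := fun a b ha hb =>
    IsLocalRing.nonunits_add ha hb
  have hmul : ∀ a b : C, ¬ IsUnit a → ¬ IsUnit (a * b) := fun a b ha h => ha (isUnit_of_mul_isUnit_left h)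
  have hneg : ∀ a : C, ¬ IsUnit a → ¬ IsUnit (-a) := fun a ha h => ha (by simpa using h.neg)
  have hsub : ∀ a b : C, ¬ IsUnit a → ¬ IsUnit b → ¬ IsUnit (a - b) := fun a b ha hb => by
    rw [sub_eq_add_neg]; exact hadd _ _ ha (hneg _ hb)
  rw [sq, ← Nat.card_prod]
  refine Nat.card_congr
    { toFun := fun c => (⟨c.1 - η * ((c.1 - s c.1) * ↑δ⁻¹), ?_, ?_⟩, ⟨(c.1 - s c.1) * ↑δ⁻¹, hb c.1, ?_⟩)
      invFun := fun x => ⟨x.1.1 + η * x.2.1, ?_⟩
      left_inv := fun c => Subtype.ext (by simp)
      right_inv := fun x => ?_ }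
  · obtain ⟨c, hc⟩ := c
    show s (c - η * ((c - s c) * ↑δ⁻¹)) = c - η * ((c - s c) * ↑δ⁻¹)
    rw [map_sub, map_mul, hb]
    have h1 : c - s c = (δ : C) * ((c - s c) * ↑δ⁻¹) := by
      rw [mul_comm (δ : C), Units.inv_mul_cancel_right]
    have h2 : s c = c - (η - s η) * ((c - s c) * ↑δ⁻¹) := by
      rw [← hδ, ← h1]; ring
    rw [h2]
    have h3 : c - (c - (η - s η) * ((c - s c) * ↑δ⁻¹)) = (c - s c) := by rw [← hδ, ← h1]; ring
    rw [h3]
    ring
  · refine hsub _ _ c.2 ?_
    rw [mul_comm]
    exact hmul _ _ (hmul _ _ (hsub _ _ c.2 (hsu _ c.2)))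
  · exact hmul _ _ (hsub _ _ c.2 (hsu _ c.2))
  · refine hadd _ _ x.1.2.2 ?_
    rw [mul_comm]
    exact hmul _ _ x.2.2.2
  · obtain ⟨⟨a, ha, ha'⟩, ⟨b, hb', hb''⟩⟩ := x
    have h1 : (a + η * b - s (a + η * b)) * ↑δ⁻¹ = b := by
      rw [map_add, map_mul, ha, hb']
      have : a + η * b - (a + s η * b) = b * δ := by rw [hδ]; ring
      rw [this, Units.mul_inv_cancel_right]
    apply Prod.ext
    · apply Subtype.ext
      show a + η * b - η * ((a + η * b - s (a + η * b)) * ↑δ⁻¹) = a
      rw [h1]
      ring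
    · apply Subtype.ext
      exact h1

include hs in
/-- Hilbert 90 -/
theorem exists_unit {η : C} (hη : IsUnit (η - s η)) {u : C} (hu : u ∈ U s) : ∃ c : Cˣ, (c : C) = u * s c := by
  change u * s u = 1 at hu
  have hT : ∀ a : C, a + u * s a = u * s (a + u * s a) := by
    intro a
    rw [map_add, map_mul, hs, mul_add, ← mul_assoc, hu, one_mul, add_comm]
  by_cases h1 : IsUnit (1 + u * s 1)
  · exact ⟨h1.unit, hT 1⟩
  · by_cases h2 : IsUnit (η + u * s η)
    · exact ⟨h2.unit, hT η⟩
    · exfalso
      have h3 : ¬ IsUnit ((η + u * s η) + -(s η * (1 + u * s 1))) := by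
        refine IsLocalRing.nonunits_add h2 ?_
        intro h
        apply h1
        have h4 : IsUnit ((1 + u * s 1) * s η) := by simpa [mul_comm] using h.neg
        exact isUnit_of_mul_isUnit_left h4
      apply h3
      rw [map_one]
      have : (η + u * s η) + -(s η * (1 + u * 1)) = η - s η := by ring
      rw [this]
      exact hη

include hs in
/-- `|U| |C_s^×| ≤ |C^×|` -/
theorem card_U_mul {η : C} (hη : IsUnit (η - s η)) :
    Nat.card (U s) * Nat.card {c : C | s c = c ∧ IsUnit c} ≤ Nat.card {c : C | IsUnit c} := by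
  choose g hg using fun u : U s => exists_unit hs hη u.2
  rw [← Nat.card_prod]
  refine Nat.card_le_card_of_injective
    (fun x : U s × {c : C | s c = c ∧ IsUnit c} => (⟨(g x.1 : C) * x.2.1, (g x.1).isUnit.mul x.2.2.2⟩ :
      {c : C | IsUnit c})) ?_
  rintro ⟨u, ⟨z, hz, hz'⟩⟩ ⟨u', ⟨z', hz1, hz1'⟩⟩ h
  have h1 : (g u : C) * z = g u' * z' := congrArg Subtype.val h
  have h2 : u.1 * (s (g u : C) * z) = u'.1 * (s (g u : C) * z) := by
    have e1 : u.1 * (s (g u : C) * z) = g u * z := by rw [← mul_assoc, ← hg u]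
    have e2 : u'.1 * (s (g u' : C) * z') = g u' * z' := by rw [← mul_assoc, ← hg u']
    have e3 : s (g u : C) * z = s (g u' : C) * z' := by
      have := congrArg s h1
      rwa [map_mul, map_mul, hz, hz1] at this
    rw [e1, h1, ← e2, e3]
  have h3 : IsUnit (s (g u : C) * z) := ((g u).isUnit.map s).mul hz'
  have h4 : u = u' := Subtype.ext (h3.mul_left_injective h2)
  subst h4
  have h5 : z = z' := (g u).isUnit.mul_right_injective h1
  subst h5
  rfl

include hs in
/-- **The local case**: `|U| q ≤ (q + 1) |C_s|`. -/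
theorem card_U_local {η : C} (hη : IsUnit (η - s η)) {F₀ : Type*} [Field F₀] [Finite F₀] [Algebra F₀ C]
    (hF : ∀ x : F₀, s (algebraMap F₀ C x) = algebraMap F₀ C x) :
    Nat.card (U s) * Nat.card F₀ ≤ (Nat.card F₀ + 1) * Nat.card (Fix s) := by
  have h1 := card_U_mul hs hη
  have h2 := card_fix hs hη
  have h3 := card_fix_nonunit hs hη
  set a := Nat.card (Fix s) with ha
  set b := Nat.card {c : C | s c = c ∧ ¬ IsUnit c} with hb
  have h4 : Nat.card {c : C | s c = c ∧ IsUnit c} + b = a := by
    classical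
    rw [ha, hb, ← Nat.card_sum]
    refine Nat.card_congr
      { toFun := fun x => x.elim (fun y => ⟨y.1, y.2.1⟩) (fun y => ⟨y.1, y.2.1⟩)
        invFun := fun x => if h : IsUnit x.1 then Sum.inl ⟨x.1, x.2, h⟩ else Sum.inr ⟨x.1, x.2, h⟩
        left_inv := fun x => ?_
        right_inv := fun x => ?_ }
    · rcases x with ⟨x, hx, hx'⟩ | ⟨x, hx, hx'⟩
      · simp [hx']
      · simp [hx']
    · by_cases h : IsUnit x.1
      · simp [h]
      · simp [h]
  have h5 : Nat.card {c : C | IsUnit c} + b ^ 2 = a ^ 2 := by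
    classical
    rw [← h2, ← h3, ← Nat.card_sum]
    refine Nat.card_congr
      { toFun := fun x => x.elim (fun y => y.1) (fun y => y.1)
        invFun := fun x => if h : IsUnit x then Sum.inl ⟨x, h⟩ else Sum.inr ⟨x, h⟩
        left_inv := fun x => ?_
        right_inv := fun x => ?_ }
    · rcases x with ⟨x, hx⟩ | ⟨x, hx⟩
      · simp [show IsUnit x from hx]
      · simp [show ¬ IsUnit x from hx]
    · by_cases h : IsUnit x
      · simp [h]
      · simp [h]
  -- `q b ≤ a`
  have h6 : Nat.card F₀ * b ≤ a := by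
    rw [ha, hb, ← Nat.card_prod]
    refine Nat.card_le_card_of_injective
      (fun x : F₀ × {c : C | s c = c ∧ ¬ IsUnit c} => (⟨algebraMap F₀ C x.1 + x.2.1, by
        show s _ = _
        rw [map_add, hF, x.2.2.1]⟩ : Fix s)) ?_
    rintro ⟨x, ⟨c, hc, hc'⟩⟩ ⟨y, ⟨d, hd, hd'⟩⟩ h
    have h7 : algebraMap F₀ C x + c = algebraMap F₀ C y + d := congrArg Subtype.val h
    have h8 : x = y := by
      by_contra hxy
      have h9 : IsUnit (algebraMap F₀ C (x - y)) := (IsUnit.mk0 _ (sub_ne_zero.2 hxy)).map _
      have h10 : algebraMap F₀ C (x - y) = d + -c := by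
        rw [map_sub]
        linear_combination h7
      rw [h10] at h9
      exact IsLocalRing.nonunits_add hd' (fun h => hc' (by simpa using h.neg)) h9
    subst h8
    have h11 : c = d := add_left_cancel h7
    subst h11
    rfl
  have hb0 : b < a := by
    have : 0 < Nat.card {c : C | s c = c ∧ IsUnit c} := by
      have : Nonempty {c : C | s c = c ∧ IsUnit c} := ⟨⟨1, map_one s, isUnit_one⟩⟩
      exact Nat.card_pos
    omega
  have h7 : Nat.card (U s) ≤ a + b := by
    have h8 : Nat.card (U s) * (a - b) ≤ (a + b) * (a - b) := by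
      have h9 : Nat.card {c : C | s c = c ∧ IsUnit c} = a - b := by omega
      have h10 : Nat.card {c : C | IsUnit c} = (a + b) * (a - b) := by
        rw [← Nat.sq_sub_sq]
        omega
      rw [h9, h10] at h1
      exact h1
    exact Nat.le_of_mul_le_mul_right h8 (by omega)
  nlinarith

end loc

/-! ### reduction to algebras without symmetric idempotents -/

section rec

variable {F : Type u} [Field F] [Finite F]

/-- the involution on a quotient -/
theorem exists_quot {C : Type v} [CommRing C] {s : C ≃+* C} (hs : ∀ c, s (s c) = c) (I : Ideal C)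
    (hI : ∀ c ∈ I, s c ∈ I) :
    ∃ t : (C ⧸ I) ≃+* (C ⧸ I), ∀ c, t (Ideal.Quotient.mk I c) = Ideal.Quotient.mk I (s c) := by
  have h : I = I.map (s : C →+* C) := by
    apply le_antisymm
    · intro c hc
      rw [← hs c]
      exact Ideal.mem_map_of_mem (s : C →+* C) (hI c hc)
    · rw [Ideal.map_le_iff_le_comap]
      exact fun c hc => hI c hc
  exact ⟨Ideal.quotientEquiv I I s h, fun c => Ideal.quotientEquiv_mk I I s h c⟩

theorem U_rec (σ : F → F) (Φ : ℕ → ℕ → ℕ)
    (hΦ : ∀ D₁ n₁ D₂ n₂, 1 ≤ D₁ → 1 ≤ n₁ → 1 ≤ D₂ → 1 ≤ n₂ → Φ D₁ n₁ * Φ D₂ n₂ ≤ Φ (D₁ + D₂) (n₁ + n₂))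
    (base : ∀ (C : Type v) [CommRing C] [Finite C] [Algebra F C] (s : C ≃+* C) (V : Type w) [AddCommGroup V]
      [Module C V] [Finite V] [FaithfulSMul C V] [Nontrivial V], (∀ c, s (s c) = c) →
      (∀ x, s (algebraMap F C x) = algebraMap F C (σ x)) → (∀ e, IsIdempotentElem e → s e = e → e = 0 ∨ e = 1) →
      ∀ D n : ℕ, Nat.card C = Nat.card F ^ D → Nat.card V = Nat.card F ^ n → Nat.card (U s) ≤ Φ D n) :
    ∀ (n : ℕ) (C : Type v) [CommRing C] [Finite C] [Algebra F C] (s : C ≃+* C) (V : Type w) [AddCommGroup V]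
      [Module C V] [Finite V] [FaithfulSMul C V] [Nontrivial V], (∀ c, s (s c) = c) →
      (∀ x, s (algebraMap F C x) = algebraMap F C (σ x)) →
      ∀ D : ℕ, Nat.card C = Nat.card F ^ D → Nat.card V = Nat.card F ^ n → Nat.card (U s) ≤ Φ D n := by
  intro n
  induction n using Nat.strong_induction_on with
  | h n ih =>
    intro C _ _ _ s V _ _ _ _ _ hs hF D hD hn
    have hQ : 1 < Nat.card F := Finite.one_lt_card
    by_cases hid : ∀ e, IsIdempotentElem e → s e = e → e = 0 ∨ e = 1
    · exact base C s V hs hF hid D n hD hn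
    · push Not at hid
      obtain ⟨e, he, hse, he0, he1⟩ := hid
      have he1' : 1 - e ≠ 0 := fun h => he1 (sub_eq_zero.1 h).symm
      have hN1 := part_nontrivial (V := V) he0
      have hN2 := part_nontrivial (V := V) he1'
      have hpow : ∀ W : Submodule C V, ∃ a, Nat.card W = Nat.card F ^ a := by
        intro W
        let _ : Module F W := Module.compHom W (algebraMap F C)
        exact ⟨Module.finrank F W, Module.natCard_eq_pow_finrank⟩
      obtain ⟨a, ha⟩ := hpow (part V e)
      obtain ⟨b, hb⟩ := hpow (part V (1 - e))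
      have hab : n = a + b := by
        have h1 := card_part (V := V) he
        rw [hn, ha, hb, ← pow_add] at h1
        exact Nat.pow_right_injective hQ h1
      have hpos : ∀ (W : Submodule C V) [Nontrivial W] (a : ℕ), Nat.card W = Nat.card F ^ a → 1 ≤ a := by
        intro W _ a ha
        rcases Nat.eq_zero_or_pos a with h | h
        · exfalso
          rw [h, pow_zero] at ha
          have : 1 < Nat.card W := Finite.one_lt_card
          omega
        · exact h
      have ha1 := hpos _ a ha
      have hb1 := hpos _ b hb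
      -- annihilators
      have hann : ∀ f : C, IsIdempotentElem f → ∀ c, c ∈ Module.annihilator C (part V f) ↔ c * f = 0 := by
        intro f hf c
        rw [Module.mem_annihilator]
        constructor
        · intro h
          apply FaithfulSMul.eq_of_smul_eq_smul (α := V)
          intro x
          rw [zero_smul, mul_smul]
          exact congrArg Subtype.val (h ⟨f • x, x, rfl⟩)
        · rintro h ⟨_, x, rfl⟩
          apply Subtype.ext
          show c • f • x = 0
          rw [smul_smul, h, zero_smul]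
      have key : ∀ (f : C), IsIdempotentElem f → s f = f → Nontrivial (part V f) → ∀ (c : ℕ), c < n →
          Nat.card (part V f) = Nat.card F ^ c →
          ∃ (t : (C ⧸ Module.annihilator C (part V f)) ≃+* (C ⧸ Module.annihilator C (part V f))) (d : ℕ), 1 ≤ d ∧
            Nat.card (C ⧸ Module.annihilator C (part V f)) = Nat.card F ^ d ∧
            (∀ c, t (Ideal.Quotient.mk _ c) = Ideal.Quotient.mk _ (s c)) ∧ Nat.card (U t) ≤ Φ d c := by
        intro f hf hsf hfn c hc hW
        have hI : ∀ c ∈ Module.annihilator C (part V f), s c ∈ Module.annihilator C (part V f) := by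
          intro c hc
          rw [hann f hf] at hc ⊢
          rw [← hsf, ← map_mul, hc, map_zero]
        obtain ⟨t, ht⟩ := exists_quot hs _ hI
        have hfin : Finite (C ⧸ Module.annihilator C (part V f)) := Finite.of_surjective _ Ideal.Quotient.mk_surjective
        let _ := Module.quotientAnnihilator (R := C) (M := part V f)
        have hfa : FaithfulSMul (C ⧸ Module.annihilator C (part V f)) (part V f) := by
          constructor
          intro x y hxy
          obtain ⟨x, rfl⟩ := Ideal.Quotient.mk_surjective x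
          obtain ⟨y, rfl⟩ := Ideal.Quotient.mk_surjective y
          rw [Ideal.Quotient.eq, Module.mem_annihilator]
          intro w
          have h1 : x • w = y • w := hxy w
          rw [sub_smul, h1, sub_self]
        have hd : Nat.card (C ⧸ Module.annihilator C (part V f)) =
            Nat.card F ^ Module.finrank F (C ⧸ Module.annihilator C (part V f)) := Module.natCard_eq_pow_finrank
        refine ⟨t, _, ?_, hd, ht, ?_⟩
        · rcases Nat.eq_zero_or_pos (Module.finrank F (C ⧸ Module.annihilator C (part V f))) with h | h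
          · exfalso
            rw [h, pow_zero] at hd
            have : Subsingleton (C ⧸ Module.annihilator C (part V f)) := (Nat.card_eq_one_iff_unique.1 hd).1
            obtain ⟨x, y, hxy⟩ := exists_pair_ne (part V f)
            apply hxy
            rw [← one_smul (C ⧸ Module.annihilator C (part V f)) x,
              ← one_smul (C ⧸ Module.annihilator C (part V f)) y,
              Subsingleton.elim (1 : C ⧸ Module.annihilator C (part V f)) 0, zero_smul, zero_smul]
          · exact h
        · refine ih c hc (C ⧸ Module.annihilator C (part V f)) t (part V f) ?_ ?_ _ hd hW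
          · intro x
            obtain ⟨x, rfl⟩ := Ideal.Quotient.mk_surjective x
            rw [ht, ht, hs]
          · intro x
            show t (Ideal.Quotient.mk _ (algebraMap F C x)) = Ideal.Quotient.mk _ (algebraMap F C (σ x))
            rw [ht, hF]
      have hse' : s (1 - e) = 1 - e := by rw [map_sub, map_one, hse]
      obtain ⟨t₁, D₁, hD1, hC1, ht1, hU1⟩ := key e he hse hN1 a (by omega) ha
      obtain ⟨t₂, D₂, hD2, hC2, ht2, hU2⟩ := key (1 - e) he.one_sub hse' hN2 b (by omega) hb
      have hf1 : Finite (C ⧸ Module.annihilator C (part V e)) := Finite.of_surjective _ Ideal.Quotient.mk_surjective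
      have hf2 : Finite (C ⧸ Module.annihilator C (part V (1 - e))) :=
        Finite.of_surjective _ Ideal.Quotient.mk_surjective
      have hinj : ∀ x y : C, Ideal.Quotient.mk (Module.annihilator C (part V e)) x = Ideal.Quotient.mk _ y →
          Ideal.Quotient.mk (Module.annihilator C (part V (1 - e))) x = Ideal.Quotient.mk _ y → x = y := by
        intro x y h1 h2
        rw [Ideal.Quotient.eq, hann _ he] at h1
        rw [Ideal.Quotient.eq, hann _ he.one_sub] at h2
        have : x - y = 0 := by linear_combination h1 + h2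
        exact sub_eq_zero.1 this
      -- |C| = |C₁||C₂|
      have hDD : D = D₁ + D₂ := by
        have h1 : Nat.card C = Nat.card (C ⧸ Module.annihilator C (part V e)) *
            Nat.card (C ⧸ Module.annihilator C (part V (1 - e))) := by
          rw [← Nat.card_prod]
          refine Nat.card_eq_of_bijective (fun c => (Ideal.Quotient.mk _ c, Ideal.Quotient.mk _ c)) ⟨?_, ?_⟩
          · intro x y hxy
            obtain ⟨h4, h5⟩ := Prod.ext_iff.1 hxy
            exact hinj x y h4 h5
          · rintro ⟨x, y⟩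
            obtain ⟨x, rfl⟩ := Ideal.Quotient.mk_surjective x
            obtain ⟨y, rfl⟩ := Ideal.Quotient.mk_surjective y
            refine ⟨x * e + y * (1 - e), Prod.ext ?_ ?_⟩
            · show Ideal.Quotient.mk _ _ = Ideal.Quotient.mk _ _
              rw [Ideal.Quotient.eq, hann _ he]
              have := he.eq
              linear_combination (x - y) * this
            · show Ideal.Quotient.mk _ _ = Ideal.Quotient.mk _ _
              rw [Ideal.Quotient.eq, hann _ he.one_sub]
              have := he.eq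
              linear_combination (y - x) * this
        rw [hD, hC1, hC2, ← pow_add] at h1
        exact Nat.pow_right_injective hQ h1
      have h3 : Nat.card (U s) ≤ Nat.card (U t₁) * Nat.card (U t₂) := by
        rw [← Nat.card_prod]
        refine Nat.card_le_card_of_injective
          (fun u : U s => ((⟨Ideal.Quotient.mk _ u.1, ?_⟩ : U t₁), (⟨Ideal.Quotient.mk _ u.1, ?_⟩ : U t₂))) ?_
        · show Ideal.Quotient.mk _ u.1 * t₁ (Ideal.Quotient.mk _ u.1) = 1
          rw [ht1, ← map_mul, show u.1 * s u.1 = 1 from u.2, map_one]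
        · show Ideal.Quotient.mk _ u.1 * t₂ (Ideal.Quotient.mk _ u.1) = 1
          rw [ht2, ← map_mul, show u.1 * s u.1 = 1 from u.2, map_one]
        · intro x y hxy
          obtain ⟨h4, h5⟩ := Prod.ext_iff.1 hxy
          exact Subtype.ext (hinj _ _ (congrArg Subtype.val h4) (congrArg Subtype.val h5))
      calc Nat.card (U s) ≤ _ := h3
        _ ≤ Φ D₁ a * Φ D₂ b := Nat.mul_le_mul hU1 hU2
        _ ≤ Φ (D₁ + D₂) (a + b) := hΦ _ _ _ _ hD1 ha1 hD2 hb1
        _ = Φ D n := by rw [← hDD, ← hab]

end rec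

end Cfsg.Agent.H498.Ab.Inv
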