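import Cfsg.Agent.H498.Ab.RowL
import Cfsg.Agent.H498.Ab.RowU
import Cfsg.Agent.H158.AbelMain
import Cfsg.Agent.S0253
import Cfsg.Agent.S0254
import Cfsg.Agent.S0255
import Cfsg.Agent.S0256

/-!
# The rows `A_n`, `PSL_n(q)`, `PSU_n(q)` of S2501
-/

set_option autoImplicit false
set_option linter.unusedSectionVars false

namespace Cfsg.Agent.H498.Ab.RowA

open Subgroup Matrix

/-- not `PSL_2` over a finite field -/
def NotL2 (G : Type*) [Group G] : Prop :=
  ∀ (F : Type) [Field F] [Fintype F], ¬ Nonempty (G ≃* Matrix.ProjectiveSpecialLinearGroup (Fin 2) F)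

theorem M_cubed : ∀ n, 7 ≤ n → 2 * H158.AbelArith.M n ^ 3 < n.factorial := by
  refine H158.AbelArith.three_ind (P := fun n => 7 ≤ n → 2 * H158.AbelArith.M n ^ 3 < n.factorial) 7 ?_ ?_
  · intro n hn h7
    interval_cases n
    · decide
    · decide
    · decide
  · intro n hn h _
    have h1 := h hn
    rw [H158.AbelArith.M_add (by omega)]
    have h2 : (n + 3).factorial = (n + 3) * ((n + 2) * ((n + 1) * n.factorial)) := by
      rw [Nat.factorial_succ, Nat.factorial_succ, Nat.factorial_succ]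
    rw [h2]
    calc 2 * (3 * H158.AbelArith.M n) ^ 3 = 3 * (3 * (3 * (2 * H158.AbelArith.M n ^ 3))) := by ring
      _ < 3 * (3 * (3 * n.factorial)) := by omega
      _ ≤ (n + 3) * ((n + 2) * ((n + 1) * n.factorial)) :=
        Nat.mul_le_mul (by omega) (Nat.mul_le_mul (by omega) (Nat.mul_le_mul_right _ (by omega)))

/-- **The row `A_n`.** -/
theorem ab3_Alt {n : ℕ} (hn : 7 ≤ n) : Ab3 (alternatingGroup (Fin n)) := by
  intro A hA
  have h1 := H158.AbelMain.card_le hA
  have h2 := M_cubed n hn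
  have : Nontrivial (Fin n) := Fin.nontrivial_iff_two_le.2 (by omega)
  have h3 := two_mul_nat_card_alternatingGroup (α := Fin n)
  rw [Nat.card_perm, Nat.card_eq_fintype_card (α := Fin n), Fintype.card_fin] at h3
  have h4 := Nat.pow_le_pow_left h1 3
  omega

section rows

variable {G : Type*} [Group G] [Finite G]

theorem ab3_isAlternating (h : Cfsg.IsAlternating G) (hL : NotL2 G) : Ab3 G := by
  obtain ⟨n, hn, ⟨e⟩⟩ := h
  by_cases h7 : 7 ≤ n
  · exact (ab3_Alt h7).congr e.symm
  · have : n = 5 ∨ n = 6 := by omega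
    rcases this with rfl | rfl
    · exfalso
      have : Fact (Nat.Prime 5) := ⟨by norm_num⟩
      obtain ⟨f⟩ := S0253.result (F := ZMod 5) (ZMod.card 5)
      exact hL (ZMod 5) ⟨e.trans f.symm⟩
    · exfalso
      have : Fact (Nat.Prime 3) := ⟨by norm_num⟩
      let _ : Fintype (GaloisField 3 2) := Fintype.ofFinite _
      have hc : Fintype.card (GaloisField 3 2) = 9 := by
        rw [← Nat.card_eq_fintype_card, GaloisField.card 3 2 (by norm_num)]
        norm_num
      obtain ⟨f⟩ := S0254.result hc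
      exact hL (GaloisField 3 2) ⟨e.trans f.symm⟩

theorem ab3_isPSL (h : Cfsg.IsPSL G) (hL : NotL2 G) : Ab3 G := by
  obtain ⟨F, _, _, n, hn, h2, ⟨e⟩⟩ := h
  have hn2 : n ≠ 2 := by
    rintro rfl
    exact hL F ⟨e⟩
  have hF : 1 < Fintype.card F := Fintype.one_lt_card
  by_cases h3 : n = 3 ∧ Fintype.card F = 2
  · exfalso
    obtain ⟨rfl, hF2⟩ := h3
    have : Fact (Nat.Prime 7) := ⟨by norm_num⟩
    obtain ⟨f⟩ := S0255.result (F := ZMod 7) (K := F) (ZMod.card 7) hF2
    exact hL (ZMod 7) ⟨e.trans f.symm⟩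
  · by_cases h4 : n = 4 ∧ Fintype.card F = 2
    · obtain ⟨rfl, hF2⟩ := h4
      obtain ⟨f⟩ := S0256.result hF2
      exact (ab3_Alt (by norm_num : 7 ≤ 8)).congr (e.trans f).symm
    · refine (RowL.ab3_PSL (F := F) (n := n) (by omega) ?_ ?_).congr e.symm
      · intro hn
        by_contra hlt
        exact h3 ⟨hn, by omega⟩
      · intro hn
        by_contra hlt
        exact h4 ⟨hn, by omega⟩

theorem ab3_isPSU (h : Cfsg.IsPSU G) : Ab3 G := by
  obtain ⟨F, _, _, n, q, hF, hn, h32, ⟨e⟩⟩ := h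
  exact (RowU.ab3_PSU hF hn h32).congr e.symm

end rows

end Cfsg.Agent.H498.Ab.RowA
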