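import Cfsg.Agent.H498.Ab.Asm
import Cfsg.Agent.H152.AbClassical
import Cfsg.Agent.H473.Ab.E8
import Cfsg.Agent.H804.D4Ab.Row
import Cfsg.Agent.H332.Ab.TwE6
import Cfsg.Agent.H991.Ab2F4

/-!
# S2501: classical and exceptional rows together
-/

set_option autoImplicit false

namespace Cfsg.Agent.H498.Ab.Asm

open Cfsg

universe u

/-- the rows which remain: `G₂(q)`, the Tits group and the sporadic groups -/
structure Rows3 : Prop where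
  g2 : ∀ (G : Type u) [Group G] [Finite G] [IsSimpleGroup G], Lie.IsoChevG2 G → Ab3 G
  tits : ∀ (G : Type u) [Group G] [Finite G] [IsSimpleGroup G], Lie.IsoTits G → Ab3 G
  spor : ∀ (G : Type u) [Group G] [Finite G] [IsSimpleGroup G], IsSporadicGroup G → Ab3 G

theorem ab3_isPSp {G : Type u} [Group G] (h : IsPSp G) : Ab3 G := by
  obtain ⟨F, _, _, m, hm, h3, ⟨e⟩⟩ := h
  exact Ab3.congr e.symm (H152.AbClassical.ab3_PSp hm h3)

theorem ab3_isPOmegaOdd {G : Type u} [Group G] (h : IsPOmegaOdd G) : Ab3 G := by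
  obtain ⟨F, _, _, m, hm, h3, ⟨e⟩⟩ := h
  exact Ab3.congr e.symm (H152.AbClassical.ab3_POmegaOdd hm h3)

theorem ab3_isPOmegaPlus {G : Type u} [Group G] (h : IsPOmegaPlus G) : Ab3 G := by
  obtain ⟨F, _, _, m, hm, ⟨e⟩⟩ := h
  exact Ab3.congr e.symm (H152.AbClassical.ab3_POmegaPlus hm)

theorem ab3_isPOmegaMinus {G : Type u} [Group G] (h : IsPOmegaMinus G) : Ab3 G := by
  obtain ⟨F, _, _, m, a, b, hm, hab, ⟨e⟩⟩ := h
  exact Ab3.congr e.symm (H152.AbClassical.ab3_POmegaMinus (m := m - 1) (by omega) a b hab)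

theorem ab3_2E6 {G : Type u} [Group G] (h : Lie.Iso2E6 G) : Ab3 G := by
  obtain ⟨K, _, _, q, hq, hK, ⟨e⟩⟩ := h
  exact Ab3.congr e.symm (H928.AbNum.twE6_of H157.Ab.x1 H332.Ab.TwE6.pbTwE6 (H316.Ab.sb_twE6 H197.Ab.X3.x3) K q hq hK)

theorem ab3_3D4 {G : Type u} [Group G] [Finite G] [IsSimpleGroup G] (h : Lie.Iso3D4 G) : Ab3 G :=
  H804.D4Ab.ab3_3D4_of H197.Ab.X3.x3 h

theorem Rows3.rows (R : Rows3.{u}) : Rows.{u} where
  psp _ _ _ _ h := ab3_isPSp h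
  oodd _ _ _ _ h := ab3_isPOmegaOdd h
  oplus _ _ _ _ h := ab3_isPOmegaPlus h
  ominus _ _ _ _ h := ab3_isPOmegaMinus h
  g2 := R.g2
  f4 _ _ _ _ h := H473.Ab.E8.ab3_F4 h
  e6 _ _ _ _ h := H473.Ab.E8.ab3_E6 h
  e7 _ _ _ _ h := H473.Ab.E8.ab3_E7 h
  e8 _ _ _ _ h := H473.Ab.E8.ab3_E8 h
  te6 _ _ _ _ h := ab3_2E6 h
  td4 _ _ _ _ h := ab3_3D4 h
  tf4 _ _ _ _ h := H991.Ab2F4.ab3_2F4 h
  tits := R.tits
  spor := R.spor

end Cfsg.Agent.H498.Ab.Asm
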