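import Cfsg.Agent.H498.Ab.RowC
import Cfsg.Agent.H994.Ab.AbG2

/-!
# S2501: everything except the Tits group and the sporadic groups
-/

set_option autoImplicit false

namespace Cfsg.Agent.H498.Ab.Asm

open Cfsg

universe u

/-- the rows which remain: the Tits group and the sporadic groups -/
structure Rows2 : Prop where
  tits : ∀ (G : Type u) [Group G] [Finite G] [IsSimpleGroup G], Lie.IsoTits G → Ab3 G
  spor : ∀ (G : Type u) [Group G] [Finite G] [IsSimpleGroup G], IsSporadicGroup G → Ab3 G

theorem Rows2.rows (R : Rows2.{u}) : Rows.{u} :=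
  Rows3.rows
    { g2 := fun _ _ _ _ h => H994.AbG2.ab3_G2 h
      tits := R.tits
      spor := R.spor }

end Cfsg.Agent.H498.Ab.Asm
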