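import Cfsg.Agent.H498.Ab.Lift
import Cfsg.Agent.S0242
import Cfsg.Agent.S0256
import Cfsg.Agent.S0280

/-!
# The row `PSL_n(q)`, `n ≥ 3`, of S2501
-/

set_option autoImplicit false
set_option linter.unusedSectionVars false

namespace Cfsg.Agent.H498.Ab.RowL

open Subgroup Cfsg.Agent.H498.Ab.Lift Cfsg.Agent.H498.Ab.Heis Matrix

/-! ### arithmetic -/

/-- `h² (x - 1) < x ^ h` -/
theorem heis_arith {x h : ℕ} (hx : 3 ≤ x) (hh : 1 ≤ h) : h ^ 2 * (x - 1) + 1 ≤ x ^ h := by
  obtain ⟨y, rfl⟩ := Nat.exists_eq_add_of_le hx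
  have e : 3 + y - 1 = y + 2 := by omega
  rw [e]
  induction h, hh using Nat.le_induction with
  | base => simp; omega
  | succ h hh ih =>
    have h1 : (3 + y) * (h ^ 2 * (y + 2) + 1) ≤ (3 + y) ^ (h + 1) := by
      rw [pow_succ, mul_comm]
      exact Nat.mul_le_mul_right _ ih
    refine le_trans ?_ h1
    have h2 : h ≤ h ^ 2 := by nlinarith
    nlinarith [Nat.zero_le (y * h ^ 2), Nat.zero_le (y * y * h ^ 2), Nat.zero_le (y * h)]

/-- the product of `q ^ n - q ^ i` -/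
def P (q n : ℕ) : ℕ := ∏ i ∈ Finset.range n, (q ^ n - q ^ i)

theorem P_succ (q n : ℕ) : P q (n + 1) = (q ^ (n + 1) - 1) * q ^ n * P q n := by
  unfold P
  rw [Finset.prod_range_succ']
  have h1 : ∏ i ∈ Finset.range n, (q ^ (n + 1) - q ^ (i + 1)) = q ^ n * ∏ i ∈ Finset.range n, (q ^ n - q ^ i) := by
    have : ∀ i ∈ Finset.range n, q ^ (n + 1) - q ^ (i + 1) = q * (q ^ n - q ^ i) := by
      intro i _
      rw [Nat.mul_sub, pow_succ, pow_succ]
      ring_nf
    rw [Finset.prod_congr rfl this, Finset.prod_mul_distrib, Finset.prod_const, Finset.card_range]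
  rw [h1, pow_zero]
  ring

theorem P_bound {q : ℕ} (hq : 2 ≤ q) (n : ℕ) :
    (q : ℤ) ^ ((n + 1) * (n + 1)) * ((q : ℤ) ^ 2 - q - 1) + (q : ℤ) ^ ((n + 1) * n + 1) ≤ (q : ℤ) ^ 2 * (P q (n + 1) : ℤ) := by
  have hq' : (2 : ℤ) ≤ q := by exact_mod_cast hq
  induction n with
  | zero =>
    rw [P_succ]
    have : (P q 0 : ℕ) = 1 := rfl
    rw [this]
    have h1 : ((q ^ (0 + 1) - 1 : ℕ) : ℤ) = q - 1 := by
      rw [Nat.cast_sub (by simp; omega)]
      simp
    rw [Nat.cast_mul, Nat.cast_mul, h1]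
    simp only [zero_add, one_mul, pow_zero, Nat.cast_one, mul_one, mul_zero, pow_one]
    nlinarith
  | succ n ih =>
    rw [P_succ]
    have h1 : ((q ^ (n + 1 + 1) - 1 : ℕ) : ℤ) = (q : ℤ) ^ (n + 2) - 1 := by
      rw [Nat.cast_sub (Nat.one_le_pow _ _ (by omega))]
      simp
    rw [Nat.cast_mul, Nat.cast_mul, h1, Nat.cast_pow]
    set y : ℤ := (q : ℤ) ^ (n + 1) with hy
    set w : ℤ := (q : ℤ) ^ ((n + 1) * n) with hw
    have hyq : (q : ℤ) ≤ y := by
      rw [hy, pow_succ]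
      have : (1 : ℤ) ≤ (q : ℤ) ^ n := one_le_pow₀ (by omega)
      nlinarith
    have hw1 : (1 : ℤ) ≤ w := one_le_pow₀ (by omega)
    have e1 : (q : ℤ) ^ ((n + 1) * (n + 1)) = w * y := by rw [hw, hy, ← pow_add]; congr 1
    have e2 : (q : ℤ) ^ ((n + 1) * n + 1) = w * q := by rw [hw, pow_succ]
    have e3 : (q : ℤ) ^ ((n + 1 + 1) * (n + 1 + 1)) = w * y * (y * y) * q := by
      rw [hw, hy, ← pow_add, ← pow_add, ← pow_add, ← pow_succ]
      congr 1
      ring
    have e4 : (q : ℤ) ^ ((n + 1 + 1) * (n + 1) + 1) = w * y * y * q := by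
      rw [hw, hy, ← pow_add, ← pow_add, ← pow_succ]
      congr 1
      ring
    have e5 : (q : ℤ) ^ (n + 2) = y * q := by rw [hy, ← pow_succ]
    rw [e1, e2] at ih
    rw [e3, e4, e5]
    have h2 : 0 ≤ (y * q - 1) * y := by nlinarith
    have h3 := mul_le_mul_of_nonneg_left ih h2
    have h4 : 0 ≤ w * y * (y - q) := by
      apply mul_nonneg
      · nlinarith
      · linarith
    nlinarith

theorem P_two {n : ℕ} (hn : 1 ≤ n) : 2 ^ (n * n) ≤ 4 * P 2 n := by
  obtain ⟨n, rfl⟩ := Nat.exists_eq_add_of_le' hn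
  have h := P_bound (le_refl 2) n
  have h1 : (0 : ℤ) ≤ (2 : ℤ) ^ ((n + 1) * n + 1) := by positivity
  push_cast at h
  have h2 : ((2 : ℤ)) ^ ((n + 1) * (n + 1)) ≤ 4 * (P 2 (n + 1) : ℤ) := by
    nlinarith
  exact_mod_cast h2

theorem P_three {q n : ℕ} (hq : 3 ≤ q) (hn : 1 ≤ n) : q ^ (n * n) ≤ q * (q - 1) * P q n := by
  obtain ⟨n, rfl⟩ := Nat.exists_eq_add_of_le' hn
  have h := P_bound (by omega : 2 ≤ q) n
  have hq' : (3 : ℤ) ≤ q := by exact_mod_cast hq
  set z : ℤ := (q : ℤ) ^ ((n + 1) * (n + 1)) with hz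
  have hz1 : (1 : ℤ) ≤ z := one_le_pow₀ (by omega)
  have h1 : (0 : ℤ) ≤ (q : ℤ) ^ ((n + 1) * n + 1) := by positivity
  have h2 : z ≤ q * (q - 1) * (P q (n + 1) : ℤ) := by
    have h3 : z * ((q : ℤ) ^ 2 - q - 1) ≤ (q : ℤ) ^ 2 * (P q (n + 1) : ℤ) := by linarith
    have h4 : z * q ≤ q * (q * (q - 1) * (P q (n + 1) : ℤ)) := by
      have h5 : (q - 1) * (z * ((q : ℤ) ^ 2 - q - 1)) ≤ (q - 1) * ((q : ℤ) ^ 2 * (P q (n + 1) : ℤ)) :=
        mul_le_mul_of_nonneg_left h3 (by linarith)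
      have h6 : z * q ≤ (q - 1) * (z * ((q : ℤ) ^ 2 - q - 1)) := by
        have h7 : (q : ℤ) ≤ (q - 1) * ((q : ℤ) ^ 2 - q - 1) := by nlinarith
        nlinarith
      nlinarith
    nlinarith
  have h3 : ((q ^ ((n + 1) * (n + 1)) : ℕ) : ℤ) ≤ ((q * (q - 1) * P q (n + 1) : ℕ) : ℤ) := by
    push_cast [Nat.cast_sub (by omega : 1 ≤ q)]
    exact h2
  exact_mod_cast h3

/-! ### the bound -/

section bound

variable {F : Type*} [Field F] [Fintype F] {n : ℕ}

theorem card_le (hn : 1 ≤ n) (A : Subgroup (ProjectiveSpecialLinearGroup (Fin n) F)) (hA : IsMulCommutative A) :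
    (Fintype.card F - 1) * Nat.card A + 1 ≤ Fintype.card F ^ (n ^ 2 / 4 + 1) := by
  classical
  haveI : Nonempty (Fin n) := ⟨⟨0, by omega⟩⟩
  haveI : Nontrivial (Matrix (Fin n) (Fin n) F) := inferInstance
  set q := Fintype.card F with hq
  have hq1 : 1 < q := Fintype.one_lt_card
  have hqF : Nat.card F = q := Nat.card_eq_fintype_card
  let ρ : Matrix.SpecialLinearGroup (Fin n) F →* Matrix (Fin n) (Fin n) F := Cfsg.slToMat n F
  have hρ0 : ∀ g : Matrix.SpecialLinearGroup (Fin n) F, ρ g = (g : Matrix (Fin n) (Fin n) F) := fun g => rfl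
  have hρ : Function.Injective ρ := fun a b h => Subtype.ext h
  have hZ : ∀ z ∈ center (Matrix.SpecialLinearGroup (Fin n) F), ∃ c : F, ρ z = c • 1 := by
    intro z hz
    obtain ⟨r, _, hr⟩ := Matrix.SpecialLinearGroup.mem_center_iff.1 hz
    refine ⟨r, ?_⟩
    rw [hρ0, ← hr, Matrix.smul_one_eq_diagonal]
    rfl
  obtain ⟨Z, B, h, h1, hZB, hcZ, hB, hcard, hadj, hexp⟩ := lift (F := F) ρ hρ hZ A hA
  have hBc := comm_iff.1 hB
  have hS : ∀ a ∈ ρ '' (B : Set (Matrix.SpecialLinearGroup (Fin n) F)),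
      ∀ b ∈ ρ '' (B : Set (Matrix.SpecialLinearGroup (Fin n) F)), a * b = b * a := by
    rintro _ ⟨a, ha, rfl⟩ _ ⟨b, hb, rfl⟩
    rw [← map_mul, ← map_mul, hBc a ha b hb]
  have hV : Nat.card (Fin n → F) = Nat.card F ^ n := by
    rw [Nat.card_fun, Nat.card_eq_fintype_card (α := Fin n), Fintype.card_fin]
  haveI : FaithfulSMul (Matrix (Fin n) (Fin n) F) (Fin n → F) := ⟨fun h => Matrix.ext_iff_smul.2 h⟩
  have hschur := adjoin_schur (F := F) (Fin n → F) _ hS hV
  set C₁ := Algebra.adjoin F (ρ '' (Z : Set (Matrix.SpecialLinearGroup (Fin n) F))) with hC₁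
  have hC1 : Nat.card C₁ = q ^ Module.finrank F C₁ := by
    rw [← hqF]
    exact card_adjoin_eq _
  set D := Module.finrank F C₁ with hD
  have hD1 : 1 ≤ D := by
    rcases Nat.eq_zero_or_pos D with h0 | h0
    · exfalso
      rw [h0, pow_zero] at hC1
      have : Nontrivial C₁ := inferInstance
      have : 1 < Nat.card C₁ := Finite.one_lt_card
      omega
    · exact h0
  -- the scalars
  have hT : Nat.card (⊤ : Subgroup Fˣ) * Nat.card Z ≤ Nat.card (center (Matrix.SpecialLinearGroup (Fin n) F)) *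
      Nat.card {x : Matrix (Fin n) (Fin n) F | x ∈ C₁ ∧ x ≠ 0} := by
    refine card_scalar ρ hρ ⊤ Z _ ?_
    intro c _ z hz
    refine ⟨C₁.smul_mem (Algebra.subset_adjoin ⟨z, hz, rfl⟩) _, ?_⟩
    intro h0
    have hz0 : ρ z = 0 := by
      have := congrArg (fun x => ((c⁻¹ : Fˣ) : F) • x) h0
      simpa [smul_smul] using this
    exact (isUnit_rho ρ z).ne_zero hz0
  have hK : Nat.card (⊤ : Subgroup Fˣ) = q - 1 := by
    rw [Subgroup.card_top, Nat.card_units, hqF]
  have hT' : Nat.card {x : Matrix (Fin n) (Fin n) F | x ∈ C₁ ∧ x ≠ 0} = q ^ D - 1 := by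
    have h2 : Nat.card {x : Matrix (Fin n) (Fin n) F | x ∈ C₁ ∧ x ≠ 0} = Nat.card {x : C₁ // x ≠ 0} :=
      Nat.card_congr
        { toFun := fun x => ⟨⟨x.1, x.2.1⟩, fun h => x.2.2 (congrArg Subtype.val h)⟩
          invFun := fun x => ⟨x.1.1, x.1.2, fun h => x.2 (Subtype.ext h)⟩
          left_inv := fun x => rfl
          right_inv := fun x => rfl }
    rw [h2, Nat.card_eq_fintype_card, Fintype.card_subtype_compl, Fintype.card_subtype_eq, ← Nat.card_eq_fintype_card, hC1]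
  rw [hK, hT'] at hT
  set d := Nat.card (center (Matrix.SpecialLinearGroup (Fin n) F)) with hd
  have hd0 : 0 < d := Nat.card_pos
  have h2 : (q - 1) * Nat.card A ≤ h ^ 2 * (q ^ D - 1) := by
    apply Nat.le_of_mul_le_mul_right _ hd0
    calc (q - 1) * Nat.card A * d = (q - 1) * (Nat.card A * d) := by ring
      _ ≤ (q - 1) * (h ^ 2 * Nat.card Z) := Nat.mul_le_mul_left _ hcard
      _ = h ^ 2 * ((q - 1) * Nat.card Z) := by ring
      _ ≤ h ^ 2 * (d * (q ^ D - 1)) := Nat.mul_le_mul_left _ hT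
      _ = _ := by ring
  have h3 : h ^ 2 * (q ^ D - 1) + 1 ≤ (q ^ D) ^ h := by
    by_cases hq2 : q = 2
    · -- the centre is trivial
      have h4 : h = 1 := by
        by_contra hne
        obtain ⟨r, hr, hrh⟩ := Nat.exists_prime_and_dvd hne
        have h5 := hexp 1 (by
          intro z hz
          rw [pow_one]
          obtain ⟨r, hr1, hr2⟩ := Matrix.SpecialLinearGroup.mem_center_iff.1 hz
          have hr0 : r ≠ 0 := by
            rintro rfl
            rw [zero_pow (by simp; omega)] at hr1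
            exact zero_ne_one hr1
          have hr3 : r ^ (Fintype.card F - 1) = 1 := FiniteField.pow_card_sub_one_eq_one r hr0
          rw [← hq, hq2, pow_one] at hr3
          apply Subtype.ext
          rw [← hr2, hr3]
          simp) r hr hrh
        exact hr.one_lt.ne' (Nat.dvd_one.1 h5)
      subst h4
      have : 0 < q ^ D := Nat.pow_pos (by omega)
      simp only [one_pow, one_mul, pow_one]
      omega
    · refine heis_arith ?_ h1
      calc 3 ≤ q := by omega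
        _ = q ^ 1 := (pow_one q).symm
        _ ≤ q ^ D := Nat.pow_le_pow_right (by omega) hD1
  calc (q - 1) * Nat.card A + 1 ≤ h ^ 2 * (q ^ D - 1) + 1 := by omega
    _ ≤ (q ^ D) ^ h := h3
    _ = Nat.card C₁ ^ h := by rw [hC1]
    _ ≤ _ := hadj
    _ ≤ _ := by rw [← hqF]; exact hschur

/-- the order -/
theorem card_psl (hn : 1 ≤ n) : (Fintype.card F - 1) * Nat.gcd n (Fintype.card F - 1) *
    Nat.card (ProjectiveSpecialLinearGroup (Fin n) F) = P (Fintype.card F) n := by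
  have h1 := S0242.result (F := F) (q := Fintype.card F) rfl n hn
  have h2 := (center (Matrix.SpecialLinearGroup (Fin n) F)).card_eq_card_quotient_mul_card_subgroup
  rw [S0280.card_center_SL hn] at h2
  rw [h2] at h1
  rw [P, Finset.prod_range, ← h1]
  show _ = (Fintype.card F - 1) * (Nat.card (ProjectiveSpecialLinearGroup (Fin n) F) * _)
  ring

theorem ab3_big (hn : 4 ≤ n) (h4 : n = 4 → 3 ≤ Fintype.card F) : Ab3 (ProjectiveSpecialLinearGroup (Fin n) F) := by
  intro A hA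
  have h1 := card_le (by omega) A hA
  have h2 := card_psl (F := F) (n := n) (by omega)
  set q := Fintype.card F with hq
  have hq1 : 1 < q := Fintype.one_lt_card
  set X := Nat.card A with hX
  set N := n ^ 2 / 4 + 1 with hN
  -- `q ^ (3 N) ≤ (q - 1) P`
  have h3 : q ^ (3 * N) ≤ (q - 1) * P q n := by
    by_cases hq2 : q = 2
    · have h5 : n ≠ 4 := fun h => by have := h4 h; omega
      have h6 := P_two (n := n) (by omega)
      rw [hq2]
      have h7 : 3 * N + 2 ≤ n * n := by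
        have h8 : 5 * 5 ≤ n * n := Nat.mul_le_mul (by omega) (by omega)
        rw [hN, sq]
        omega
      have h8 : 2 ^ (3 * N) * 4 ≤ 4 * P 2 n := by
        calc 2 ^ (3 * N) * 4 = 2 ^ (3 * N + 2) := by rw [pow_add]; norm_num
          _ ≤ 2 ^ (n * n) := Nat.pow_le_pow_right (by norm_num) h7
          _ ≤ _ := h6
      have : (2 - 1) * P 2 n = P 2 n := by norm_num
      rw [this]
      omega
    · have h6 := P_three (q := q) (n := n) (by omega) (by omega)
      have h7 : 3 * N + 1 ≤ n * n := by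
        have h8 : 4 * 4 ≤ n * n := Nat.mul_le_mul (by omega) (by omega)
        rw [hN, sq]
        omega
      have h8 : q ^ (3 * N) * q ≤ ((q - 1) * P q n) * q := by
        calc q ^ (3 * N) * q = q ^ (3 * N + 1) := by rw [pow_succ]
          _ ≤ q ^ (n * n) := Nat.pow_le_pow_right (by omega) h7
          _ ≤ _ := h6
          _ = _ := by ring
      exact Nat.le_of_mul_le_mul_right h8 (by omega)
  set d := Nat.gcd n (q - 1) with hd
  have hd1 : d ≤ q - 1 := Nat.gcd_le_right _ (by omega)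
  have hd0 : 0 < d := Nat.gcd_pos_of_pos_right _ (by omega)
  have h5 : ((q - 1) * X) ^ 3 < q ^ (3 * N) := by
    rw [mul_comm 3 N, pow_mul]
    exact Nat.pow_lt_pow_left (by omega) (by norm_num)
  have h6 : (q - 1) ^ 3 * (d * X ^ 3) < (q - 1) ^ 3 * (d * Nat.card (ProjectiveSpecialLinearGroup (Fin n) F)) := by
    calc (q - 1) ^ 3 * (d * X ^ 3) = d * ((q - 1) * X) ^ 3 := by ring
      _ < d * q ^ (3 * N) := Nat.mul_lt_mul_of_pos_left h5 hd0
      _ ≤ (q - 1) * ((q - 1) * P q n) := Nat.mul_le_mul hd1 h3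
      _ = (q - 1) ^ 3 * (d * Nat.card (ProjectiveSpecialLinearGroup (Fin n) F)) := by rw [← h2]; ring
  have h7 := Nat.lt_of_mul_lt_mul_left h6
  exact Nat.lt_of_mul_lt_mul_left h7

theorem ab3_three (hq3 : 3 ≤ Fintype.card F) : Ab3 (ProjectiveSpecialLinearGroup (Fin 3) F) := by
  intro A hA
  have h1 := card_le (n := 3) (by omega) A hA
  have h2 := card_psl (F := F) (n := 3) (by omega)
  set q := Fintype.card F with hq
  set X := Nat.card A with hX
  set d := Nat.gcd 3 (q - 1) with hd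
  have hd0 : 0 < d := Nat.gcd_pos_of_pos_right _ (by omega)
  have hd3 : d ≤ 3 := Nat.gcd_le_left _ (by omega)
  have hP : P q 3 = (q ^ 3 - 1) * (q ^ 3 - q) * (q ^ 3 - q ^ 2) := by
    simp [P, Finset.prod_range_succ]
  rw [hP] at h2
  norm_num at h1
  obtain ⟨t, ht⟩ := Nat.exists_eq_add_of_le hq3
  have e1 : q - 1 = t + 2 := by omega
  have e2 : q ^ 3 - 1 = (t + 2) * (q ^ 2 + q + 1) := by
    rw [ht]
    have : (3 + t) ^ 3 = (t + 2) * ((3 + t) ^ 2 + (3 + t) + 1) + 1 := by ring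
    omega
  have e3 : q ^ 3 - q = q * (t + 2) * (t + 4) := by
    rw [ht]
    have : (3 + t) ^ 3 = (3 + t) * (t + 2) * (t + 4) + (3 + t) := by ring
    omega
  have e4 : q ^ 3 - q ^ 2 = q ^ 2 * (t + 2) := by
    rw [ht]
    have : (3 + t) ^ 3 = (3 + t) ^ 2 * (t + 2) + (3 + t) ^ 2 := by ring
    omega
  rw [e1] at h1 h2
  rw [e2, e3, e4] at h2
  have hX1 : X ≤ q ^ 2 + q + 1 := by
    have h3 : (t + 2) * X ≤ (t + 2) * (q ^ 2 + q + 1) := by rw [← e2]; omega
    exact Nat.le_of_mul_le_mul_left h3 (by omega)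
  -- the inequality
  have h3 : d * (q ^ 2 + q + 1) ^ 2 < q ^ 3 * (t + 2) ^ 2 * (t + 4) := by
    by_cases ht0 : t = 0
    · subst ht0
      have : q = 3 := by omega
      have hd2 : d = 1 := by rw [hd, this]; rfl
      rw [hd2, this]
      norm_num
    · calc d * (q ^ 2 + q + 1) ^ 2 ≤ 3 * (q ^ 2 + q + 1) ^ 2 := Nat.mul_le_mul_right _ hd3
        _ < _ := by
          obtain ⟨s, rfl⟩ := Nat.exists_eq_add_of_le (Nat.one_le_iff_ne_zero.2 ht0)
          rw [ht]
          ring_nf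
          nlinarith [Nat.zero_le s, Nat.zero_le (s ^ 2), Nat.zero_le (s ^ 3), Nat.zero_le (s ^ 4), Nat.zero_le (s ^ 5),
            Nat.zero_le (s ^ 6)]
  have h4 : (t + 2) * d * X ^ 3 < (t + 2) * d * Nat.card (ProjectiveSpecialLinearGroup (Fin 3) F) := by
    rw [h2]
    calc (t + 2) * d * X ^ 3 ≤ (t + 2) * d * (q ^ 2 + q + 1) ^ 3 :=
          Nat.mul_le_mul_left _ (Nat.pow_le_pow_left hX1 3)
      _ = (t + 2) * (q ^ 2 + q + 1) * (d * (q ^ 2 + q + 1) ^ 2) := by ring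
      _ < (t + 2) * (q ^ 2 + q + 1) * (q ^ 3 * (t + 2) ^ 2 * (t + 4)) := by
        apply Nat.mul_lt_mul_of_pos_left h3
        positivity
      _ = _ := by ring
  exact Nat.lt_of_mul_lt_mul_left h4

end bound

/-- **The row `PSL_n(q)`, `n ≥ 3`**, except `PSL_3(2)` and `PSL_4(2)`. -/
theorem ab3_PSL {F : Type*} [Field F] [Fintype F] {n : ℕ} (hn : 3 ≤ n) (h3 : n = 3 → 3 ≤ Fintype.card F)
    (h4 : n = 4 → 3 ≤ Fintype.card F) : Ab3 (ProjectiveSpecialLinearGroup (Fin n) F) := by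
  by_cases h : n = 3
  · subst h
    exact ab3_three (h3 rfl)
  · exact ab3_big (by omega) h4

end Cfsg.Agent.H498.Ab.RowL
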