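import Mathlib

/-!
# Schur's bound for commutative algebras

`F` a finite field with `Q` elements, `C` a finite commutative `F`-algebra acting faithfully on `V`, `|V| = Q ^ n`, `n ≥ 1`:
then `|C| ≤ Q ^ (n ^ 2 / 4 + 1)` (`card_le_schur`).
-/

set_option autoImplicit false
set_option linter.unusedSectionVars false

namespace Cfsg.Agent.H498.Ab.Schur

universe u v w

/-! ### arithmetic -/

theorem arith_local {n e k : ℕ} (he : 1 ≤ e) (hk : 1 ≤ k) (h : e * k ≤ n) : e + k * (n - e * k) ≤ n ^ 2 / 4 + 1 := by
  obtain ⟨m, rfl⟩ := Nat.exists_eq_add_of_le h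
  rw [Nat.add_sub_cancel_left]
  have h1 : 4 * (e + k * m) ≤ (e * k + m) ^ 2 + 4 := by
    obtain ⟨e, rfl⟩ := Nat.exists_eq_add_of_le he
    obtain ⟨k, rfl⟩ := Nat.exists_eq_add_of_le hk
    zify
    nlinarith [sq_nonneg (((1 + (e : ℤ)) * (1 + k) + m) - 2 * (1 + k)), mul_nonneg (Int.natCast_nonneg e) (Int.natCast_nonneg k),
      mul_nonneg (Int.natCast_nonneg e) (mul_nonneg (Int.natCast_nonneg k) (Int.natCast_nonneg k))]
  omega

theorem arith_add {a b : ℕ} (ha : 1 ≤ a) (hb : 1 ≤ b) : (a ^ 2 / 4 + 1) + (b ^ 2 / 4 + 1) ≤ (a + b) ^ 2 / 4 + 1 := by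
  have key : ∀ a b : ℕ, 1 ≤ a → 1 ≤ b → a ≤ b → (a ^ 2 / 4 + 1) + (b ^ 2 / 4 + 1) ≤ (a + b) ^ 2 / 4 + 1 := by
    intro a b ha hb hab
    have h1 : (a + b) ^ 2 = a ^ 2 + b ^ 2 + 2 * (a * b) := by ring
    by_cases h2 : 2 ≤ a
    · have : 2 * 2 ≤ a * b := Nat.mul_le_mul h2 (by omega)
      omega
    · have : a = 1 := by omega
      subst this
      have h3 : b ^ 2 / 4 + 1 ≤ (1 + b) ^ 2 / 4 := by
        rcases Nat.even_or_odd' b with ⟨c, rfl | rfl⟩
        · have h4 : (2 * c) ^ 2 = 4 * c ^ 2 := by ring
          have h5 : (1 + 2 * c) ^ 2 = 4 * (c ^ 2 + c) + 1 := by ring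
          rw [h4, h5]
          omega
        · have h4 : (2 * c + 1) ^ 2 = 4 * (c ^ 2 + c) + 1 := by ring
          have h5 : (1 + (2 * c + 1)) ^ 2 = 4 * (c + 1) ^ 2 := by ring
          rw [h4, h5]
          have h6 : (c + 1) ^ 2 = c ^ 2 + c + c + 1 := by ring
          omega
      omega
  rcases le_total a b with h | h
  · exact key a b ha hb h
  · have := key b a hb ha h
    rw [add_comm b a] at this
    omega

/-! ### finite commutative rings -/

/-- a power of an element of a finite monoid is idempotent -/
theorem exists_idem {M : Type*} [Monoid M] [Finite M] (x : M) : ∃ N : ℕ, 1 ≤ N ∧ IsIdempotentElem (x ^ N) := by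
  obtain ⟨i, j, hij, h⟩ : ∃ i j : ℕ, i < j ∧ x ^ i = x ^ j := by
    obtain ⟨a, b, hab, h⟩ := Finite.exists_ne_map_eq_of_infinite (fun n : ℕ => x ^ n)
    rcases lt_or_gt_of_ne hab with h1 | h1
    · exact ⟨a, b, h1, h⟩
    · exact ⟨b, a, h1, h.symm⟩
  obtain ⟨d, hd, rfl⟩ : ∃ d, 1 ≤ d ∧ j = i + d := ⟨j - i, by omega, by omega⟩
  -- x ^ (i + m + t d) = x ^ (i + m)
  have h1 : ∀ m t : ℕ, i ≤ m → x ^ (m + t * d) = x ^ m := by
    intro m t hm
    induction t with
    | zero => simp
    | succ t ih =>
      obtain ⟨c, rfl⟩ := Nat.exists_eq_add_of_le hm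
      have : i + c + (t + 1) * d = (i + d) + (c + t * d) := by ring
      rw [this, pow_add, ← h, ← pow_add, show i + (c + t * d) = i + c + t * d by ring, ih]
  refine ⟨(i + 1) * d, Nat.one_le_iff_ne_zero.2 (by positivity), ?_⟩
  show x ^ ((i + 1) * d) * x ^ ((i + 1) * d) = x ^ ((i + 1) * d)
  rw [← pow_add, h1 ((i + 1) * d) (i + 1) ?_]
  nlinarith

theorem isLocalRing_of_idem {C : Type*} [CommRing C] [Finite C] [Nontrivial C]
    (h : ∀ e : C, IsIdempotentElem e → e = 0 ∨ e = 1) : IsLocalRing C := by
  refine IsLocalRing.of_isUnit_or_isUnit_one_sub_self fun a => ?_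
  obtain ⟨N, hN, hi⟩ := exists_idem a
  rcases h _ hi with h1 | h1
  · right
    have : IsNilpotent a := ⟨N, h1⟩
    exact this.isUnit_one_sub
  · left
    exact IsUnit.of_pow_eq_one h1 (by omega)

/-! ### the local case -/

section loc

variable {F : Type u} [Field F] [Finite F] {C : Type v} [CommRing C] [Finite C] [Algebra F C] {V : Type w}
  [AddCommGroup V] [Module C V] [Finite V]

/-- **The local case.** -/
theorem card_le_of_local [IsLocalRing C] [FaithfulSMul C V] {n : ℕ} (hn : Nat.card V = Nat.card F ^ n) :
    Nat.card C ≤ Nat.card F ^ (n ^ 2 / 4 + 1) := by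
  classical
  set J := IsLocalRing.maximalIdeal C with hJ
  set E := C ⧸ J with hE
  let _ : Field E := Ideal.Quotient.field J
  have hEfin : Finite E := Finite.of_surjective _ Ideal.Quotient.mk_surjective
  have hQ : 1 < Nat.card F := Finite.one_lt_card
  -- the residue field
  obtain ⟨e, he⟩ : ∃ e, Nat.card E = Nat.card F ^ e := ⟨Module.finrank F E, Module.natCard_eq_pow_finrank⟩
  have he1 : 1 ≤ e := by
    rcases Nat.eq_zero_or_pos e with h | h
    · exfalso
      rw [h, pow_zero] at he
      have : 1 < Nat.card E := Finite.one_lt_card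
      omega
    · exact h
  -- the top
  set N : Submodule C V := J • ⊤ with hN
  set k := Module.finrank E (V ⧸ N) with hk
  have hk1 : Nat.card (V ⧸ N) = Nat.card F ^ (e * k) := by
    rw [pow_mul, ← he]
    exact Module.natCard_eq_pow_finrank
  have hVN : Nat.card V = Nat.card (V ⧸ N) * Nat.card N := by
    exact (Submodule.card_eq_card_quotient_mul_card N).trans (mul_comm _ _)
  have hNc : Nat.card N = Nat.card F ^ (n - e * k) ∧ e * k ≤ n := by
    have h1 : Nat.card F ^ n = Nat.card F ^ (e * k) * Nat.card N := by rw [← hn, hVN, hk1]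
    have h2 : e * k ≤ n := by
      have h3 : Nat.card F ^ (e * k) ∣ Nat.card F ^ n := ⟨_, h1⟩
      exact (Nat.pow_dvd_pow_iff_le_right hQ).1 h3
    refine ⟨?_, h2⟩
    have h4 : Nat.card F ^ n = Nat.card F ^ (e * k) * Nat.card F ^ (n - e * k) := by
      rw [← pow_add, Nat.add_sub_cancel' h2]
    rw [h4] at h1
    exact (Nat.eq_of_mul_eq_mul_left (by positivity) h1).symm
  -- generators
  let b := Module.finBasis E (V ⧸ N)
  choose m hm using fun i : Fin k => Submodule.mkQ_surjective N (b i)
  have hgen : Submodule.span C (Set.range m) = ⊤ := by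
    have h1 : (⊤ : Submodule C V) ≤ Submodule.span C (Set.range m) ⊔ N := by
      intro x _
      have h2 : (Submodule.mkQ N x) ∈ Submodule.span E (Set.range b) := by rw [b.span_eq]; trivial
      have h3 : ∀ y ∈ Submodule.span E (Set.range b), ∃ z ∈ Submodule.span C (Set.range m), Submodule.mkQ N z = y := by
        intro y hy
        induction hy using Submodule.span_induction with
        | mem y hy =>
          obtain ⟨i, rfl⟩ := hy
          exact ⟨m i, Submodule.subset_span ⟨i, rfl⟩, hm i⟩
        | zero => exact ⟨0, zero_mem _, map_zero _⟩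
        | add x y _ _ hx hy =>
          obtain ⟨x', hx', rfl⟩ := hx
          obtain ⟨y', hy', rfl⟩ := hy
          exact ⟨x' + y', add_mem hx' hy', map_add _ _ _⟩
        | smul c y _ hy =>
          obtain ⟨y', hy', rfl⟩ := hy
          obtain ⟨c', rfl⟩ := Ideal.Quotient.mk_surjective c
          exact ⟨c' • y', Submodule.smul_mem _ _ hy', rfl⟩
      obtain ⟨z, hz, hzx⟩ := h3 _ h2
      have h4 : x - z ∈ N := by
        rw [← Submodule.Quotient.mk_eq_zero N]
        show Submodule.mkQ N (x - z) = 0
        rw [map_sub, hzx, sub_self]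
      have h5 : x = z + (x - z) := by abel
      rw [h5]
      exact Submodule.add_mem_sup hz h4
    refine top_le_iff.1 (Submodule.le_of_le_smul_of_le_jacobson_bot (I := J) ?_ ?_ h1)
    · exact Module.Finite.fg_top
    · exact IsLocalRing.maximalIdeal_le_jacobson _
  -- J embeds in N ^ k
  have hJc : Nat.card J ≤ Nat.card N ^ k := by
    have h1 : Nat.card (Fin k → N) = Nat.card N ^ k := by
      rw [Nat.card_fun, Nat.card_fin]
    rw [← h1]
    refine Nat.card_le_card_of_injective
      (fun (a : J) (i : Fin k) => (⟨a.1 • m i, Submodule.smul_mem_smul a.2 trivial⟩ : N)) ?_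
    intro a a' haa
    apply Subtype.ext
    apply FaithfulSMul.eq_of_smul_eq_smul (α := V)
    intro x
    have h2 : x ∈ Submodule.span C (Set.range m) := by rw [hgen]; trivial
    induction h2 using Submodule.span_induction with
    | mem y hy =>
      obtain ⟨i, rfl⟩ := hy
      exact congrArg Subtype.val (congrFun haa i)
    | zero => simp
    | add x y _ _ hx hy => rw [smul_add, smul_add, hx, hy]
    | smul c y _ hy => rw [smul_comm, hy, smul_comm]
  have hC : Nat.card C = Nat.card E * Nat.card J := by
    have := Submodule.card_eq_card_quotient_mul_card J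
    rw [this, mul_comm]
  by_cases hk0 : k = 0
  · -- then V = 0 and C is trivial
    exfalso
    rw [hk0, mul_zero, pow_zero] at hk1
    have h1 : Subsingleton (V ⧸ N) := (Nat.card_eq_one_iff_unique.1 hk1).1
    have h2 : N = ⊤ := by
      rw [eq_top_iff]
      intro x _
      rw [← Submodule.Quotient.mk_eq_zero N]
      exact Subsingleton.elim _ _
    have h3 : (⊤ : Submodule C V) ≤ ⊥ := by
      refine Submodule.le_of_le_smul_of_le_jacobson_bot (I := J) Module.Finite.fg_top
        (IsLocalRing.maximalIdeal_le_jacobson _) ?_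
      rw [bot_sup_eq, ← hN, h2]
    have h4 : (1 : C) = 0 := by
      apply FaithfulSMul.eq_of_smul_eq_smul (α := V)
      intro x
      have : x = 0 := by simpa using h3 (Submodule.mem_top (x := x))
      rw [this]; simp
    exact one_ne_zero h4
  · rw [hC, he]
    calc Nat.card F ^ e * Nat.card J ≤ Nat.card F ^ e * Nat.card N ^ k := Nat.mul_le_mul_left _ hJc
      _ = Nat.card F ^ (e + k * (n - e * k)) := by
        rw [hNc.1, ← pow_mul, ← pow_add, mul_comm k]
      _ ≤ _ := Nat.pow_le_pow_right hQ.le (arith_local he1 (by omega) hNc.2)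

end loc

/-! ### splitting by an idempotent -/

section split

variable {C : Type v} [CommRing C] {V : Type w} [AddCommGroup V] [Module C V]

/-- `e V` -/
abbrev part (V : Type w) [AddCommGroup V] [Module C V] (e : C) : Submodule C V := LinearMap.range (LinearMap.lsmul C V e)

theorem smul_part {e : C} (he : IsIdempotentElem e) (x : part V e) : e • x = x := by
  obtain ⟨x, y, rfl⟩ := x
  apply Subtype.ext
  show e • e • y = e • y
  rw [smul_smul, he]

theorem card_part [Finite V] {e : C} (he : IsIdempotentElem e) :
    Nat.card V = Nat.card (part V e) * Nat.card (part V (1 - e)) := by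
  rw [← Nat.card_prod]
  refine Nat.card_congr
    { toFun := fun x => (⟨e • x, x, rfl⟩, ⟨(1 - e) • x, x, rfl⟩)
      invFun := fun x => x.1.1 + x.2.1
      left_inv := fun x => ?_
      right_inv := fun x => ?_ }
  · show e • x + (1 - e) • x = x
    rw [← add_smul]
    simp
  · obtain ⟨⟨x, a, rfl⟩, ⟨y, b, rfl⟩⟩ := x
    have h1 : e * (1 - e) = 0 := by rw [mul_sub, mul_one, he.eq, sub_self]
    have h2 : (1 - e) * e = 0 := by rw [mul_comm, h1]
    have h3 : (1 - e) * (1 - e) = 1 - e := he.one_sub.eq
    apply Prod.ext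
    · apply Subtype.ext
      show e • (e • a + (1 - e) • b) = e • a
      rw [smul_add, smul_smul, smul_smul, he.eq, h1, zero_smul, add_zero]
    · apply Subtype.ext
      show (1 - e) • (e • a + (1 - e) • b) = (1 - e) • b
      rw [smul_add, smul_smul, smul_smul, h2, h3, zero_smul, zero_add]

/-- two elements with the same action on both parts are equal -/
theorem eq_of_parts [FaithfulSMul C V] {e : C} {a b : C} (h1 : ∀ x : part V e, a • x = b • x)
    (h2 : ∀ x : part V (1 - e), a • x = b • x) : a = b := by
  apply FaithfulSMul.eq_of_smul_eq_smul (α := V)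
  intro x
  have h3 : x = e • x + (1 - e) • x := by
    rw [← add_smul]
    simp
  have h4 := congrArg Subtype.val (h1 ⟨e • x, x, rfl⟩)
  have h5 := congrArg Subtype.val (h2 ⟨(1 - e) • x, x, rfl⟩)
  rw [h3, smul_add, smul_add]
  exact congrArg₂ _ h4 h5

theorem part_nontrivial [FaithfulSMul C V] {e : C} (he : e ≠ 0) : Nontrivial (part V e) := by
  by_contra h
  rw [not_nontrivial_iff_subsingleton] at h
  apply he
  apply FaithfulSMul.eq_of_smul_eq_smul (α := V)
  intro x
  have : (⟨e • x, x, rfl⟩ : part V e) = 0 := Subsingleton.elim _ _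
  rw [zero_smul]
  exact congrArg Subtype.val this

end split

/-- **Schur's bound.** -/
theorem card_le_schur {F : Type u} [Field F] [Finite F] : ∀ (n : ℕ) (C : Type v) [CommRing C] [Finite C] [Algebra F C]
    (V : Type w) [AddCommGroup V] [Module C V] [Finite V] [FaithfulSMul C V] [Nontrivial V],
    Nat.card V = Nat.card F ^ n → Nat.card C ≤ Nat.card F ^ (n ^ 2 / 4 + 1) := by
  intro n
  induction n using Nat.strong_induction_on with
  | h n ih =>
    intro C _ _ _ V _ _ _ _ _ hn
    have hQ : 1 < Nat.card F := Finite.one_lt_card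
    have : Nontrivial C := by
      by_contra h
      rw [not_nontrivial_iff_subsingleton] at h
      obtain ⟨x, y, hxy⟩ := exists_pair_ne V
      apply hxy
      rw [← one_smul C x, ← one_smul C y, Subsingleton.elim (1 : C) 0, zero_smul, zero_smul]
    by_cases hloc : ∀ e : C, IsIdempotentElem e → e = 0 ∨ e = 1
    · have := isLocalRing_of_idem hloc
      exact card_le_of_local hn
    · push Not at hloc
      obtain ⟨e, he, he0, he1⟩ := hloc
      have he1' : 1 - e ≠ 0 := fun h => he1 (sub_eq_zero.1 h).symm
      have hN1 := part_nontrivial (V := V) he0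
      have hN2 := part_nontrivial (V := V) he1'
      -- cardinalities are powers of `Q`
      have hpow : ∀ W : Submodule C V, ∃ a, Nat.card W = Nat.card F ^ a := by
        intro W
        let _ : Module F W := Module.compHom W (algebraMap F C)
        exact ⟨Module.finrank F W, Module.natCard_eq_pow_finrank⟩
      obtain ⟨a, ha⟩ := hpow (part V e)
      obtain ⟨b, hb⟩ := hpow (part V (1 - e))
      have hab : n = a + b := by
        have h1 := card_part (V := V) he
        rw [hn, ha, hb, ← pow_add] at h1
        exact Nat.pow_right_injective hQ h1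
      have ha1 : 1 ≤ a := by
        rcases Nat.eq_zero_or_pos a with h | h
        · exfalso
          rw [h, pow_zero] at ha
          have : 1 < Nat.card (part V e) := Finite.one_lt_card
          omega
        · exact h
      have hb1 : 1 ≤ b := by
        rcases Nat.eq_zero_or_pos b with h | h
        · exfalso
          rw [h, pow_zero] at hb
          have : 1 < Nat.card (part V (1 - e)) := Finite.one_lt_card
          omega
        · exact h
      -- the two quotients
      have key : ∀ (W : Submodule C V) [Nontrivial W] (c : ℕ), c < n → Nat.card W = Nat.card F ^ c →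
          Nat.card (C ⧸ Module.annihilator C W) ≤ Nat.card F ^ (c ^ 2 / 4 + 1) := by
        intro W _ c hc hW
        let _ := Module.quotientAnnihilator (R := C) (M := W)
        have : Finite (C ⧸ Module.annihilator C W) := Finite.of_surjective _ Ideal.Quotient.mk_surjective
        have hf : FaithfulSMul (C ⧸ Module.annihilator C W) W := by
          constructor
          intro x y hxy
          obtain ⟨x, rfl⟩ := Ideal.Quotient.mk_surjective x
          obtain ⟨y, rfl⟩ := Ideal.Quotient.mk_surjective y
          rw [Ideal.Quotient.eq, Module.mem_annihilator]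
          intro w
          have h1 : x • w = y • w := hxy w
          rw [sub_smul, h1, sub_self]
        exact ih c hc (C ⧸ Module.annihilator C W) W hW
      have h1 := key (part V e) a (by omega) ha
      have h2 := key (part V (1 - e)) b (by omega) hb
      have h3 : Nat.card C ≤ Nat.card (C ⧸ Module.annihilator C (part V e)) *
          Nat.card (C ⧸ Module.annihilator C (part V (1 - e))) := by
        have : Finite (C ⧸ Module.annihilator C (part V e)) := Finite.of_surjective _ Ideal.Quotient.mk_surjective
        have : Finite (C ⧸ Module.annihilator C (part V (1 - e))) :=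
          Finite.of_surjective _ Ideal.Quotient.mk_surjective
        rw [← Nat.card_prod]
        refine Nat.card_le_card_of_injective (fun c => (Ideal.Quotient.mk _ c, Ideal.Quotient.mk _ c)) ?_
        intro x y hxy
        obtain ⟨h4, h5⟩ := Prod.ext_iff.1 hxy
        rw [Ideal.Quotient.eq, Module.mem_annihilator] at h4 h5
        refine eq_of_parts (V := V) (e := e) (fun w => ?_) (fun w => ?_)
        · have := h4 w
          rw [sub_smul, sub_eq_zero] at this
          exact this
        · have := h5 w
          rw [sub_smul, sub_eq_zero] at this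
          exact this
      calc Nat.card C ≤ _ := h3
        _ ≤ Nat.card F ^ (a ^ 2 / 4 + 1) * Nat.card F ^ (b ^ 2 / 4 + 1) := Nat.mul_le_mul h1 h2
        _ = Nat.card F ^ ((a ^ 2 / 4 + 1) + (b ^ 2 / 4 + 1)) := (pow_add _ _ _).symm
        _ ≤ Nat.card F ^ (n ^ 2 / 4 + 1) := by
          rw [hab]
          exact Nat.pow_le_pow_right hQ.le (arith_add ha1 hb1)

end Cfsg.Agent.H498.Ab.Schur
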