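import Cfsg.Agent.H498.Ab.RowA
import Cfsg.Agent.H158.PslTwoClass
import Cfsg.Agent.ClassicalGeometry.PSL2Solvable
import Cfsg.Agent.ClassicalGeometry.PSL2Basic

/-!
# Abelian subgroups of `PSL_2(q)`, `q` odd, and factorisations `ABA`
-/

set_option autoImplicit false
set_option linter.unusedSectionVars false

namespace Cfsg.Agent.H498.Ab.Two

open Subgroup Matrix Cfsg.Agent.H158.SLTwoCent Cfsg.Agent.H158.PslTwoClass
open Cfsg.Agent.ClassicalGeometry.PSL2Solvable

section bound

variable {F : Type*} [Field F] [Fintype F] (hodd : Odd (Fintype.card F))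

local notation "SL2" => Matrix.SpecialLinearGroup (Fin 2) F
local notation "L2" => Matrix.ProjectiveSpecialLinearGroup (Fin 2) F

/-- the inverse image -/
abbrev hat (A : Subgroup L2) : Subgroup SL2 := A.comap (QuotientGroup.mk' (center SL2))

include hodd in
theorem card_hat (A : Subgroup L2) : Nat.card (hat A) = 2 * Nat.card A := by
  have h1 := Lift.card_comap_mk (H := SL2) A
  have h2 : Nat.card (center SL2) = 2 := by
    rw [S0280.card_center_SL (by norm_num)]
    obtain ⟨k, hk⟩ := hodd
    rw [hk]
    simp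
  rw [h2] at h1
  rw [mul_comm]
  exact h1

theorem mem_hat {A : Subgroup L2} {x : SL2} : x ∈ hat A ↔ (QuotientGroup.mk x : L2) ∈ A := Iff.rfl

theorem neg_mem_hat {A : Subgroup L2} {x : SL2} (h : x ∈ hat A) : -x ∈ hat A := by
  have h1 : (-1 : SL2) ∈ center SL2 := by
    rw [mem_center_iff]
    intro g
    simp
  have h2 : (-1 : SL2) ∈ hat A := by
    rw [mem_hat, (QuotientGroup.eq_one_iff _).2 h1]
    exact A.one_mem
  have h3 : -x = -1 * x := by simp
  rw [h3]
  exact (hat A).mul_mem h2 h

theorem comm_or {A : Subgroup L2} (hA : IsMulCommutative A) {x y : SL2} (hx : x ∈ hat A) (hy : y ∈ hat A) :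
    x.1 * y.1 = y.1 * x.1 ∨ x.1 * y.1 = (-1 : F) • (y.1 * x.1) := by
  have h1 : y ∈ pre x := by
    show (QuotientGroup.mk y : L2) ∈ centralizer ({(QuotientGroup.mk x : L2)} : Set L2)
    rw [mem_centralizer_singleton_iff]
    exact comm_iff.1 hA _ hy _ hx
  obtain ⟨c, hc, h2⟩ := mem_pre.1 h1
  have h3 : (c - 1) * (c + 1) = 0 := by linear_combination hc
  rcases mul_eq_zero.1 h3 with h4 | h4
  · left
    rw [h2, sub_eq_zero.1 h4, one_smul]
  · right
    rw [h2, eq_neg_of_add_eq_zero_left h4]

include hodd in
/-- **Abelian subgroups of `PSL_2(q)`, `q` odd.** -/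
theorem card_cases (A : Subgroup L2) (hA : IsMulCommutative A) :
    Nat.card A ≤ 4 ∨ 2 * Nat.card A ≤ Fintype.card F + 1 ∨ Nat.card A ∣ Fintype.card F := by
  classical
  have h2 : (2 : F) ≠ 0 := ClassicalGeometry.SLTwoFour.two_ne_zero_of_odd hodd
  have hcard := card_hat hodd A
  by_cases hcomm : ∀ x ∈ hat A, ∀ y ∈ hat A, x * y = y * x
  · by_cases hsc : ∀ x ∈ hat A, ∃ c : F, x.1 = c • 1
    · -- scalars
      left
      have h3 : hat A ≤ center SL2 := by
        intro x hx
        obtain ⟨c, hc⟩ := hsc x hx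
        rw [mem_center_iff]
        intro g
        apply Subtype.ext
        show g.1 * x.1 = x.1 * g.1
        rw [hc, mul_smul_comm, mul_one, smul_mul_assoc, one_mul]
      have h4 : Nat.card (hat A) ≤ Nat.card (center SL2) := Subgroup.card_le_of_le h3
      have h5 : Nat.card (center SL2) = 2 := by
        rw [S0280.card_center_SL (by norm_num)]
        obtain ⟨k, hk⟩ := hodd
        rw [hk]
        simp
      omega
    · push Not at hsc
      obtain ⟨g, hg, hgs⟩ := hsc
      have h3 : hat A ≤ centralizer ({g} : Set SL2) := by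
        intro x hx
        rw [mem_centralizer_singleton_iff]
        exact hcomm x hx g hg
      have h4 : Nat.card (hat A) ∣ Nat.card (centralizer ({g} : Set SL2)) := Subgroup.card_dvd_of_le h3
      rw [card_centralizer g hgs, hcard] at h4
      have hF1 : 1 < Fintype.card F := Fintype.one_lt_card
      rcases cases_t (g.1 0 0 + g.1 1 1) with ⟨r, hr, ht, hr2⟩ | ⟨r, hr, ht⟩ | ht
      · rw [card_sol_split hr ht hr2] at h4
        have := Nat.le_of_dvd (by omega) h4
        right; left; omega
      · rw [card_sol_unip hr ht, card_sqrt_one_odd h2] at h4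
        right; right
        exact Nat.dvd_of_mul_dvd_mul_left two_pos h4
      · rw [card_sol_irr ht] at h4
        have := Nat.le_of_dvd (by omega) h4
        right; left; omega
  · -- two elements with commutator `-1`
    left
    push Not at hcomm
    obtain ⟨x, hx, y, hy, hxy⟩ := hcomm
    have hxy' : x.1 * y.1 ≠ y.1 * x.1 := fun h => hxy (Subtype.ext h)
    have h3 : x.1 * y.1 = (-1 : F) • (y.1 * x.1) := (comm_or hA hx hy).resolve_left hxy'
    have hxs : ∀ c : F, x.1 ≠ c • 1 := by
      intro c hc
      apply hxy'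
      rw [hc, smul_mul_assoc, one_mul, mul_smul_comm, mul_one]
    have hinv : ∀ z : SL2, z.1 * (z⁻¹).1 = 1 := fun z => congrArg Subtype.val (mul_inv_cancel z)
    have hne0 : ∀ z w : SL2, z.1 * w.1 ≠ 0 := by
      intro z w h
      have h5 := congrArg Subtype.val (mul_inv_cancel (z * w))
      change (z.1 * w.1) * ((z * w)⁻¹).1 = 1 at h5
      rw [h, zero_mul] at h5
      exact zero_ne_one h5
    set T := hat A ⊓ centralizer ({x} : Set SL2) with hT
    -- `T = {±1, ±x}`
    have hT4 : Nat.card T ≤ 4 := by
      have h4 : (T : Set SL2) ⊆ (({1, -1, x, -x} : Finset SL2) : Set SL2) := by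
        intro z hz
        obtain ⟨hz1, hz2⟩ := hz
        replace hz2 : z * x = x * z := mem_centralizer_singleton_iff.1 hz2
        obtain ⟨a, b, hab⟩ := exists_of_commute hxs (congrArg Subtype.val hz2 : z.1 * x.1 = x.1 * z.1)
        have h5 : y.1 * z.1 = a • y.1 - b • (x.1 * y.1) := by
          rw [hab, mul_add, mul_smul_comm, mul_one, mul_smul_comm, h3, smul_smul]
          rw [mul_neg_one, neg_smul, sub_neg_eq_add]
        have h6 : z.1 * y.1 = a • y.1 + b • (x.1 * y.1) := by
          rw [hab, add_mul, smul_mul_assoc, one_mul, smul_mul_assoc]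
        have hdet := z.2
        rw [hab, det_comb] at hdet
        simp only [Finset.coe_insert, Finset.coe_singleton, Set.mem_insert_iff, Set.mem_singleton_iff]
        rcases comm_or hA hy hz1 with h7 | h7
        · -- `b = 0`
          have h8 : (2 * b) • (x.1 * y.1) = 0 := by
            rw [h5, h6] at h7
            rw [mul_smul, two_smul]
            have : a • y.1 - b • (x.1 * y.1) - (a • y.1 + b • (x.1 * y.1)) = 0 := sub_eq_zero.2 h7
            have e : b • (x.1 * y.1) + b • (x.1 * y.1) = -(a • y.1 - b • (x.1 * y.1) - (a • y.1 + b • (x.1 * y.1))) := by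
              abel
            rw [e, this, neg_zero]
          have hb : b = 0 := by
            have := (smul_eq_zero.1 h8).resolve_right (hne0 x y)
            exact (mul_eq_zero.1 this).resolve_left h2
          rw [hb] at hdet hab
          have ha : (a - 1) * (a + 1) = 0 := by linear_combination hdet
          rcases mul_eq_zero.1 ha with h9 | h9
          · left
            apply Subtype.ext
            rw [hab, sub_eq_zero.1 h9]
            simp
          · right; left
            apply Subtype.ext
            rw [hab, eq_neg_of_add_eq_zero_left h9]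
            simp
        · -- `a = 0`
          have h8 : (2 * a) • y.1 = 0 := by
            rw [h5, h6] at h7
            rw [mul_smul, two_smul]
            have : a • y.1 - b • (x.1 * y.1) - (-1 : F) • (a • y.1 + b • (x.1 * y.1)) = 0 := sub_eq_zero.2 h7
            have e : a • y.1 + a • y.1 = a • y.1 - b • (x.1 * y.1) - (-1 : F) • (a • y.1 + b • (x.1 * y.1)) := by
              rw [neg_one_smul]
              abel
            rw [e, this]
          have ha : a = 0 := by
            have hy0 : y.1 ≠ 0 := by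
              intro h
              have := hinv y
              rw [h, zero_mul] at this
              exact zero_ne_one this
            have := (smul_eq_zero.1 h8).resolve_right hy0
            exact (mul_eq_zero.1 this).resolve_left h2
          rw [ha] at hdet hab
          have hb : (b - 1) * (b + 1) = 0 := by linear_combination hdet
          rcases mul_eq_zero.1 hb with h9 | h9
          · right; right; left
            apply Subtype.ext
            rw [hab, sub_eq_zero.1 h9]
            simp
          · right; right; right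
            apply Subtype.ext
            rw [hab, eq_neg_of_add_eq_zero_left h9]
            simp
      calc Nat.card T = (T : Set SL2).ncard := rfl
        _ ≤ (({1, -1, x, -x} : Finset SL2) : Set SL2).ncard := Set.ncard_le_ncard h4 (Finset.finite_toSet _)
        _ = ({1, -1, x, -x} : Finset SL2).card := Set.ncard_coe_finset _
        _ ≤ 4 := Finset.card_le_four
    -- index at most two
    have hidx : Nat.card (hat A) ≤ 2 * Nat.card T := by
      have h5 : ∀ z ∈ hat A, z ∉ centralizer ({x} : Set SL2) → y⁻¹ * z ∈ centralizer ({x} : Set SL2) := by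
        intro z hz hzx
        rw [mem_centralizer_singleton_iff] at hzx ⊢
        have h6 : x.1 * z.1 = (-1 : F) • (z.1 * x.1) := by
          refine (comm_or hA hx hz).resolve_left ?_
          intro h
          exact hzx (Subtype.ext h.symm)
        have h7 : z.1 * x.1 = (-1 : F) • (x.1 * z.1) := by rw [h6, smul_smul]; simp
        have h8 : y.1 * x.1 = (-1 : F) • (x.1 * y.1) := by rw [h3, smul_smul]; simp
        -- `y x y⁻¹ = - x = z x z⁻¹`
        have h9 : y * x = -x * y := by
          apply Subtype.ext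
          show y.1 * x.1 = (-x.1) * y.1
          rw [h8]; simp
        have h10 : z * x = -x * z := by
          apply Subtype.ext
          show z.1 * x.1 = (-x.1) * z.1
          rw [h7]; simp
        have h11 : y⁻¹ * (-x) = x * y⁻¹ := by
          have : -x = y * x * y⁻¹ := by rw [h9]; group
          rw [this]; group
        calc y⁻¹ * z * x = y⁻¹ * (z * x) := by group
          _ = (y⁻¹ * (-x)) * z := by rw [h10]; group
          _ = x * (y⁻¹ * z) := by rw [h11]; group
      have h6 : Nat.card (hat A) ≤ Nat.card (Bool × T) := by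
        refine Nat.card_le_card_of_injective (fun z : hat A =>
          if h : z.1 ∈ centralizer ({x} : Set SL2) then (true, (⟨z.1, z.2, h⟩ : T))
          else (false, (⟨y⁻¹ * z.1, (hat A).mul_mem ((hat A).inv_mem hy) z.2, h5 z.1 z.2 h⟩ : T))) ?_
        intro z w hzw
        by_cases hz : z.1 ∈ centralizer ({x} : Set SL2)
        · by_cases hw : w.1 ∈ centralizer ({x} : Set SL2)
          · simp only [hz, hw, dite_true] at hzw
            have := congrArg (fun p : Bool × T => p.2.1) hzw
            exact Subtype.ext this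
          · simp only [hz, hw, dite_true, dite_false] at hzw
            exact absurd (congrArg Prod.fst hzw) (by simp)
        · by_cases hw : w.1 ∈ centralizer ({x} : Set SL2)
          · simp only [hz, hw, dite_true, dite_false] at hzw
            exact absurd (congrArg Prod.fst hzw) (by simp)
          · simp only [hz, hw, dite_false] at hzw
            have h7 := congrArg (fun p : Bool × T => p.2.1) hzw
            have h8 : y⁻¹ * z.1 = y⁻¹ * w.1 := h7
            exact Subtype.ext (mul_left_cancel h8)
      rw [Nat.card_prod] at h6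
      simpa using h6
    omega

/-- upper triangular matrices: the diagonal entry is multiplicative -/
theorem borel_mul {x y : SL2} (hx : x ∈ borel F) (hy : y ∈ borel F) : (x * y).1 0 0 = x.1 0 0 * y.1 0 0 := by
  have h1 : y.1 1 0 = 0 := mem_borel_iff.1 hy
  show (x.1 * y.1) 0 0 = _
  rw [Matrix.mul_apply, Fin.sum_univ_two, h1, mul_zero, add_zero]

theorem borel_pow {x : SL2} (hx : x ∈ borel F) (n : ℕ) : (x ^ n).1 0 0 = x.1 0 0 ^ n := by
  induction n with
  | zero => simp
  | succ n ih => rw [pow_succ, borel_mul ((borel F).pow_mem hx n) hx, ih, pow_succ]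

/-- the diagonal of elements of `borel` over a `p`-group -/
theorem sq_of_pow {x : SL2} (hx : x ∈ borel F) (h : (QuotientGroup.mk x : L2) ^ Fintype.card F = 1) :
    x.1 0 0 * x.1 0 0 = 1 := by
  have h1 : x ^ Fintype.card F ∈ center SL2 := by
    rw [← QuotientGroup.eq_one_iff, QuotientGroup.mk_pow]
    exact h
  obtain ⟨r, hr, hr2⟩ := Matrix.SpecialLinearGroup.mem_center_iff.1 h1
  have h2 : (x ^ Fintype.card F).1 0 0 = r := by
    have := congrFun (congrFun hr2 0) 0
    rw [← this]
    simp
  rw [borel_pow hx, FiniteField.pow_card] at h2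
  rw [h2]
  have : r ^ 2 = 1 := by simpa using hr
  rw [← sq]
  exact this

/-- the diagonal matrices -/
def dg (r : Fˣ) : SL2 := ⟨!![(r : F), 0; 0, ((r⁻¹ : Fˣ) : F)], by simp [Matrix.det_fin_two]⟩

theorem dg_mem (r : Fˣ) : dg r ∈ borel F := mem_borel_iff.2 (by show (dg r).1 1 0 = 0; simp [dg])

theorem dg_apply (r : Fˣ) : (dg r).1 0 0 = r := by simp [dg]

include hodd in
/-- `A` in the Borel subgroup -/
theorem no_aba_borel (h7 : 7 ≤ Fintype.card F) (A B : Subgroup L2) (hB : IsMulCommutative B)
    (hq : Nat.card A ∣ Fintype.card F) (hAb : A ≤ (borel F).map (QuotientGroup.mk' (center SL2)))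
    (h : ∀ g : L2, ∃ a ∈ A, ∃ b ∈ B, ∃ c ∈ A, g = a * b * c) : False := by
  classical
  have h2 : (2 : F) ≠ 0 := ClassicalGeometry.SLTwoFour.two_ne_zero_of_odd hodd
  -- lifts
  have hneg : ∀ {x : SL2}, x ∈ borel F → -x ∈ borel F := by
    intro x hx
    have h1 : x.1 1 0 = 0 := mem_borel_iff.1 hx
    refine mem_borel_iff.2 ?_
    show (-x.1) 1 0 = 0
    rw [Matrix.neg_apply, h1, neg_zero]
  have hmkc : ∀ x y : SL2, (QuotientGroup.mk x : L2) = QuotientGroup.mk y → x = y ∨ x = -y := by
    intro x y hxy
    have h3 := QuotientGroup.eq.1 hxy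
    obtain ⟨r, hr, hr2⟩ := Matrix.SpecialLinearGroup.mem_center_iff.1 h3
    have hr' : (r - 1) * (r + 1) = 0 := by
      have : r ^ 2 = 1 := by simpa using hr
      linear_combination this
    rcases mul_eq_zero.1 hr' with h4 | h4
    · left
      have h5 : x⁻¹ * y = 1 := by
        apply Subtype.ext
        rw [← hr2, sub_eq_zero.1 h4]
        simp
      rw [← mul_right_inj x⁻¹, h5, inv_mul_cancel]
    · right
      have h5 : x⁻¹ * y = -1 := by
        apply Subtype.ext
        rw [← hr2, eq_neg_of_add_eq_zero_left h4]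
        ext i j
        fin_cases i <;> fin_cases j <;> simp
      have h6 : y = -x := by
        calc y = x * (x⁻¹ * y) := by group
          _ = x * -1 := by rw [h5]
          _ = -x := by simp
      rw [h6, neg_neg]
  have hAhat : ∀ x ∈ hat A, x ∈ borel F ∧ x.1 0 0 * x.1 0 0 = 1 := by
    intro x hx
    have h3 : x ∈ borel F := by
      obtain ⟨y, hy, hxy⟩ := hAb (mem_hat.1 hx)
      rcases hmkc y x hxy with h4 | h4
      · exact h4 ▸ hy
      · have : x = -y := by rw [h4, neg_neg]
        rw [this]
        exact hneg hy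
    refine ⟨h3, sq_of_pow h3 ?_⟩
    obtain ⟨k, hk⟩ := hq
    have h4 : (⟨QuotientGroup.mk x, mem_hat.1 hx⟩ : A) ^ Nat.card A = 1 := pow_card_eq_one'
    have h5 : (QuotientGroup.mk x : L2) ^ Nat.card A = 1 := congrArg Subtype.val h4
    rw [hk, pow_mul, h5, one_pow]
  have hfac : ∀ g : SL2, ∃ a ∈ hat A, ∃ b ∈ hat B, ∃ c ∈ hat A, g = a * b * c := by
    intro g
    obtain ⟨a, ha, b, hb, c, hc, hg⟩ := h (QuotientGroup.mk g)
    obtain ⟨a, rfl⟩ := QuotientGroup.mk_surjective a
    obtain ⟨b, rfl⟩ := QuotientGroup.mk_surjective b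
    refine ⟨a, ha, b, hb, (a * b)⁻¹ * g, ?_, by group⟩
    rw [mem_hat]
    have : (QuotientGroup.mk ((a * b)⁻¹ * g) : L2) = c := by
      rw [QuotientGroup.mk_mul, QuotientGroup.mk_inv, QuotientGroup.mk_mul, hg]
      group
    rw [this]
    exact hc
  -- representatives of the torus in `B`
  have hex : ∀ r : Fˣ, ∃ b ∈ hat B, b ∈ borel F ∧ b.1 0 0 = r := by
    intro r
    obtain ⟨a, ha, b, hb, c, hc, hg⟩ := hfac (dg r)
    obtain ⟨ha1, ha2⟩ := hAhat a ha
    obtain ⟨hc1, hc2⟩ := hAhat c hc
    have hb1 : b ∈ borel F := by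
      have : b = a⁻¹ * dg r * c⁻¹ := by rw [hg]; group
      rw [this]
      exact (borel F).mul_mem ((borel F).mul_mem ((borel F).inv_mem ha1) (dg_mem r)) ((borel F).inv_mem hc1)
    have h3 : (r : F) = a.1 0 0 * b.1 0 0 * c.1 0 0 := by
      rw [← dg_apply r, hg, borel_mul ((borel F).mul_mem ha1 hb1) hc1, borel_mul ha1 hb1]
    have ha3 : (a.1 0 0 - 1) * (a.1 0 0 + 1) = 0 := by linear_combination ha2
    have hc3 : (c.1 0 0 - 1) * (c.1 0 0 + 1) = 0 := by linear_combination hc2
    have h4 : (r : F) = b.1 0 0 ∨ (r : F) = -b.1 0 0 := by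
      rcases mul_eq_zero.1 ha3 with h5 | h5 <;> rcases mul_eq_zero.1 hc3 with h6 | h6
      · left; rw [h3, sub_eq_zero.1 h5, sub_eq_zero.1 h6]; ring
      · right; rw [h3, sub_eq_zero.1 h5, eq_neg_of_add_eq_zero_left h6]; ring
      · right; rw [h3, eq_neg_of_add_eq_zero_left h5, sub_eq_zero.1 h6]; ring
      · left; rw [h3, eq_neg_of_add_eq_zero_left h5, eq_neg_of_add_eq_zero_left h6]; ring
    rcases h4 with h4 | h4
    · exact ⟨b, hb, hb1, h4.symm⟩
    · refine ⟨-b, neg_mem_hat hb, hneg hb1, ?_⟩
      rw [h4]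
      rfl
  choose f hf1 hf2 hf3 using hex
  have hcF : Nat.card Fˣ = Fintype.card F - 1 := by
    rw [Nat.card_units, Nat.card_eq_fintype_card]
  have hc1 : Fintype.card F - 1 ≤ Nat.card (hat B ⊓ borel F : Subgroup SL2) := by
    rw [← hcF]
    refine Nat.card_le_card_of_injective (fun r : Fˣ => (⟨f r, hf1 r, hf2 r⟩ : (hat B ⊓ borel F : Subgroup SL2))) ?_
    intro r s hrs
    have h3 : f r = f s := congrArg Subtype.val hrs
    apply Units.ext
    rw [← hf3 r, ← hf3 s, h3]
  have hcardB := card_hat hodd B
  -- `B` is not a `p`-group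
  have hBq : ¬ Nat.card B ∣ Fintype.card F := by
    rintro ⟨k, hk⟩
    have h3 : ∀ r : Fˣ, (r : F) * r = 1 := by
      intro r
      rw [← hf3 r]
      refine sq_of_pow (hf2 r) ?_
      have h4 : (⟨QuotientGroup.mk (f r), mem_hat.1 (hf1 r)⟩ : B) ^ Nat.card B = 1 := pow_card_eq_one'
      have h5 : (QuotientGroup.mk (f r) : L2) ^ Nat.card B = 1 := congrArg Subtype.val h4
      rw [hk, pow_mul, h5, one_pow]
    have h4 : Nat.card Fˣ ≤ 2 := by
      have h5 : Nat.card Fˣ ≤ Nat.card {x : F // x * x = 1} := by
        refine Nat.card_le_card_of_injective (fun r : Fˣ => (⟨r, h3 r⟩ : {x : F // x * x = 1})) ?_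
        intro r s hrs
        exact Units.ext (congrArg Subtype.val hrs)
      rw [card_sqrt_one_odd h2] at h5
      exact h5
    omega
  have hB2 : 2 * Nat.card B ≤ Fintype.card F + 1 := by
    rcases card_cases hodd B hB with h3 | h3 | h3
    · omega
    · exact h3
    · exact absurd h3 hBq
  -- `B ≤ borel`
  have hle : hat B ≤ borel F := by
    obtain ⟨k, hk⟩ := Subgroup.card_dvd_of_le (inf_le_left : hat B ⊓ borel F ≤ hat B)
    have hk1 : k = 1 := by
      by_contra hne
      have hk0 : k ≠ 0 := by
        rintro rfl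
        rw [mul_zero] at hk
        exact (Nat.card_pos (α := hat B)).ne' hk
      have h3 : Nat.card (hat B ⊓ borel F : Subgroup SL2) * 2 ≤ Nat.card (hat B) := by
        rw [hk]
        exact Nat.mul_le_mul_left _ (by omega)
      omega
    rw [hk1, mul_one] at hk
    have h3 : hat B ⊓ borel F = hat B := Subgroup.eq_of_le_of_card_ge inf_le_left hk.le
    exact inf_eq_left.1 h3
  -- contradiction
  let w : SL2 := ⟨!![0, -1; 1, 0], by simp [Matrix.det_fin_two]⟩
  obtain ⟨a, ha, b, hb, c, hc, hg⟩ := hfac w
  have h3 : w ∈ borel F := by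
    rw [hg]
    exact (borel F).mul_mem ((borel F).mul_mem (hAhat a ha).1 (hle hb)) (hAhat c hc).1
  have h4 : w.1 1 0 = 0 := mem_borel_iff.1 h3
  simp [w] at h4

include hodd in
/-- **No factorisation `ABA` in `PSL_2(q)`, `q` odd, `q ≥ 7`.** -/
theorem no_aba (h7 : 7 ≤ Fintype.card F) (A B : Subgroup L2) (hA : IsMulCommutative A) (hB : IsMulCommutative B)
    (h : ∀ g : L2, ∃ a ∈ A, ∃ b ∈ B, ∃ c ∈ A, g = a * b * c) : False := by
  classical
  obtain ⟨p, hp⟩ := CharP.exists F
  obtain ⟨n, hprime, hcard⟩ := FiniteField.card F p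
  have : Fact p.Prime := ⟨hprime⟩
  have hBq : Nat.card B ≤ Fintype.card F := by
    rcases card_cases hodd B hB with h3 | h3 | h3
    · omega
    · omega
    · exact Nat.le_of_dvd (by omega) h3
  -- the small case
  have small : ¬ 2 * Nat.card A ≤ Fintype.card F + 1 := by
    intro hs
    have h1 : Nat.card L2 ≤ Nat.card A * Nat.card B * Nat.card A := by
      rw [← Nat.card_prod, ← Nat.card_prod]
      refine Nat.card_le_card_of_surjective (fun x : (A × B) × A => (x.1.1 : L2) * x.1.2 * x.2) ?_
      intro g
      obtain ⟨a, ha, b, hb, c, hc, hg⟩ := h g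
      exact ⟨((⟨a, ha⟩, ⟨b, hb⟩), ⟨c, hc⟩), hg.symm⟩
    have h2 := ClassicalGeometry.PSL2Basic.card_PSL2_odd (F := F) hodd
    set q := Fintype.card F with hq
    obtain ⟨t, ht⟩ := Nat.exists_eq_add_of_le h7
    have e : q ^ 2 - 1 = (t + 6) * (q + 1) := by
      rw [ht]
      have : (7 + t) ^ 2 = (t + 6) * (7 + t + 1) + 1 := by ring
      omega
    rw [e] at h2
    have h3 : (2 * Nat.card A) * (2 * Nat.card A) ≤ (q + 1) * (q + 1) := Nat.mul_le_mul hs hs
    have h4 : Nat.card L2 * 2 * 2 ≤ (q + 1) * (q + 1) * q := by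
      calc Nat.card L2 * 2 * 2 ≤ (Nat.card A * Nat.card B * Nat.card A) * 2 * 2 := by omega
        _ = (2 * Nat.card A) * (2 * Nat.card A) * Nat.card B := by ring
        _ ≤ (q + 1) * (q + 1) * q := Nat.mul_le_mul h3 hBq
    rw [h2] at h4
    have h5 : (q * (q + 1)) * (2 * (t + 6)) ≤ (q * (q + 1)) * (q + 1) := by
      calc (q * (q + 1)) * (2 * (t + 6)) = q * ((t + 6) * (q + 1)) * 2 := by ring
        _ ≤ _ := h4
        _ = _ := by ring
    have h6 := Nat.le_of_mul_le_mul_left h5 (by positivity)
    omega
  have hAq : Nat.card A ∣ Fintype.card F := by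
    rcases card_cases hodd A hA with h3 | h3 | h3
    · exact absurd (by omega) small
    · exact absurd h3 small
    · exact h3
  have hAp : IsPGroup p A := by
    rw [hcard] at hAq
    obtain ⟨k, _, hk⟩ := (Nat.dvd_prime_pow hprime).1 hAq
    exact IsPGroup.of_card hk
  obtain ⟨P, hP⟩ := hAp.exists_le_sylow
  obtain ⟨g, hg⟩ := exists_le_map_borel p P
  have h1 : A ≤ ((borel F).map (QuotientGroup.mk' (center SL2))).map (MulAut.conj g).toMonoidHom :=
    (hP.trans Subgroup.le_normalizer).trans hg
  -- conjugate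
  let e := MulAut.conj g
  have hA' : IsMulCommutative (A.comap e.toMonoidHom) := comm_comap_of_injective e.injective hA
  have hB' : IsMulCommutative (B.comap e.toMonoidHom) := comm_comap_of_injective e.injective hB
  have hcA : Nat.card (A.comap e.toMonoidHom) = Nat.card A :=
    Nat.card_congr ((e.toEquiv.subtypeEquiv fun x => Iff.rfl : (A.comap e.toMonoidHom) ≃ A))
  refine no_aba_borel hodd h7 (A.comap e.toMonoidHom) (B.comap e.toMonoidHom) hB' (hcA ▸ hAq) ?_ ?_
  · intro x hx
    obtain ⟨y, hy, hxy⟩ := h1 (show e x ∈ A from hx)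
    have : y = x := e.injective hxy
    rw [← this]
    exact hy
  · intro x
    obtain ⟨a, ha, b, hb, c, hc, hx⟩ := h (e x)
    refine ⟨e.symm a, ?_, e.symm b, ?_, e.symm c, ?_, ?_⟩
    · show e (e.symm a) ∈ A
      rwa [MulEquiv.apply_symm_apply]
    · show e (e.symm b) ∈ B
      rwa [MulEquiv.apply_symm_apply]
    · show e (e.symm c) ∈ A
      rwa [MulEquiv.apply_symm_apply]
    · apply e.injective
      rw [map_mul, map_mul, MulEquiv.apply_symm_apply, MulEquiv.apply_symm_apply, MulEquiv.apply_symm_apply]
      exact hx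

end bound

end Cfsg.Agent.H498.Ab.Two
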