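import Cfsg.Agent.H498.Ab.Inv

/-!
# Unitary groups of commutative algebras with involution of the second kind

`F` a field with `q ^ 2` elements, `σ` its involution, `C` a commutative `F`-algebra with involution `s` extending `σ`,
acting faithfully on `V` of dimension `n`: `|U s| ≤ (q + 1) ^ dim C` and `|U s| ≤ max ((q + 1) ^ n) ((q + 1) q ^ (n² / 4))`.
-/

set_option autoImplicit false
set_option linter.unusedSectionVars false

namespace Cfsg.Agent.H498.Ab.Uni

open Cfsg.Agent.H498.Ab.Schur Cfsg.Agent.H498.Ab.Inv

universe u v w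

/-! ### arithmetic -/

/-- the bound -/
def β (q n : ℕ) : ℕ := max ((q + 1) ^ n) ((q + 1) * q ^ (n ^ 2 / 4))

theorem le_β₁ (q n : ℕ) : (q + 1) ^ n ≤ β q n := le_max_left _ _

theorem le_β₂ (q n : ℕ) : (q + 1) * q ^ (n ^ 2 / 4) ≤ β q n := le_max_right _ _

theorem β_mul {q : ℕ} (hq : 2 ≤ q) (a b : ℕ) (ha : 1 ≤ a) (hb : 1 ≤ b) : β q a * β q b ≤ β q (a + b) := by
  have h1 : (a + b) ^ 2 = a ^ 2 + b ^ 2 + 2 * (a * b) := by ring
  -- the mixed case
  have mixed : ∀ a b : ℕ, 1 ≤ a → 1 ≤ b → (q + 1) ^ a * ((q + 1) * q ^ (b ^ 2 / 4)) ≤ β q (a + b) := by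
    intro a b ha hb
    by_cases hb4 : b ≤ 3
    · refine le_trans ?_ (le_β₁ q (a + b))
      rw [pow_add]
      apply Nat.mul_le_mul_left
      interval_cases b
      · simp
      · simp only [pow_succ, pow_zero, one_mul, Nat.reduceMul, Nat.reduceDiv]
        nlinarith
      · simp only [pow_succ, pow_zero, one_mul, Nat.reduceMul, Nat.reduceDiv]
        nlinarith [Nat.mul_le_mul (Nat.le_succ q) (Nat.le_succ q)]
    · refine le_trans ?_ (le_β₂ q (a + b))
      have h2 : (a + b) ^ 2 = a ^ 2 + b ^ 2 + 2 * (a * b) := by ring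
      have h3 : b ^ 2 / 4 + 2 * a ≤ (a + b) ^ 2 / 4 := by
        have : a * 4 ≤ a * b := Nat.mul_le_mul_left _ (by omega)
        omega
      calc (q + 1) ^ a * ((q + 1) * q ^ (b ^ 2 / 4)) = (q + 1) * (q ^ (b ^ 2 / 4) * (q + 1) ^ a) := by ring
        _ ≤ (q + 1) * (q ^ (b ^ 2 / 4) * (q ^ 2) ^ a) := by
          apply Nat.mul_le_mul_left
          apply Nat.mul_le_mul_left
          apply Nat.pow_le_pow_left
          nlinarith
        _ = (q + 1) * q ^ (b ^ 2 / 4 + 2 * a) := by rw [← pow_mul, ← pow_add]
        _ ≤ _ := Nat.mul_le_mul_left _ (Nat.pow_le_pow_right (by omega) h3)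
  have eq1 : ∀ n, β q n = (q + 1) ^ n ∨ β q n = (q + 1) * q ^ (n ^ 2 / 4) := fun n => max_choice _ _
  rcases eq1 a with h2 | h2
  · rcases eq1 b with h3 | h3
    · rw [h2, h3, ← pow_add]
      exact le_β₁ q (a + b)
    · rw [h2, h3]
      exact mixed a b ha hb
  · rcases eq1 b with h3 | h3
    · rw [h2, h3, mul_comm, add_comm a b]
      exact mixed b a hb ha
    · by_cases ha4 : a ≤ 3
      · have h4 : β q a ≤ (q + 1) ^ a := by
          rw [h2]
          interval_cases a
          · simp
          · simp only [pow_succ, pow_zero, one_mul, Nat.reduceMul, Nat.reduceDiv]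
            nlinarith
          · simp only [pow_succ, pow_zero, one_mul, Nat.reduceMul, Nat.reduceDiv]
            nlinarith [Nat.mul_le_mul (Nat.le_succ q) (Nat.le_succ q)]
        calc β q a * β q b ≤ (q + 1) ^ a * β q b := Nat.mul_le_mul_right _ h4
          _ ≤ _ := by rw [h3]; exact mixed a b ha hb
      · by_cases hb4 : b ≤ 3
        · have h4 : β q b ≤ (q + 1) ^ b := by
            rw [h3]
            interval_cases b
            · simp
            · simp only [pow_succ, pow_zero, one_mul, Nat.reduceMul, Nat.reduceDiv]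
              nlinarith
            · simp only [pow_succ, pow_zero, one_mul, Nat.reduceMul, Nat.reduceDiv]
              nlinarith [Nat.mul_le_mul (Nat.le_succ q) (Nat.le_succ q)]
          calc β q a * β q b ≤ β q a * (q + 1) ^ b := Nat.mul_le_mul_left _ h4
            _ ≤ _ := by
              rw [h2, mul_comm, add_comm a b]
              exact mixed b a hb ha
        · rw [h2, h3]
          refine le_trans ?_ (le_β₂ q (a + b))
          have h5 : a ^ 2 / 4 + b ^ 2 / 4 + 2 ≤ (a + b) ^ 2 / 4 := by
            have : 4 * 4 ≤ a * b := Nat.mul_le_mul (by omega) (by omega)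
            omega
          calc (q + 1) * q ^ (a ^ 2 / 4) * ((q + 1) * q ^ (b ^ 2 / 4)) =
              (q + 1) * (q ^ (a ^ 2 / 4 + b ^ 2 / 4) * (q + 1)) := by ring
            _ ≤ (q + 1) * (q ^ (a ^ 2 / 4 + b ^ 2 / 4) * q ^ 2) := by
              apply Nat.mul_le_mul_left
              apply Nat.mul_le_mul_left
              nlinarith
            _ = (q + 1) * q ^ (a ^ 2 / 4 + b ^ 2 / 4 + 2) := by rw [← pow_add]
            _ ≤ _ := Nat.mul_le_mul_left _ (Nat.pow_le_pow_right (by omega) h5)

/-! ### the hyperbolic case -/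

section hyp

variable {C : Type v} [CommRing C] [Finite C] {s : C ≃+* C} (hs : ∀ c, s (s c) = c)

include hs in
/-- `C = C e × C s(e)`, interchanged by `s` -/
theorem card_hyp {e : C} (he : IsIdempotentElem e) (h1 : e + s e = 1) : Nat.card C = Nat.card (part C e) ^ 2 := by
  have h2 : s e = 1 - e := by rw [← h1]; ring
  rw [card_part (V := C) he, sq]
  congr 1
  refine Nat.card_congr
    { toFun := fun x => ⟨s x.1, ?_⟩
      invFun := fun x => ⟨s x.1, ?_⟩
      left_inv := fun x => Subtype.ext (hs _)
      right_inv := fun x => Subtype.ext (hs _) }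
  · obtain ⟨y, hy⟩ := x.2
    refine ⟨s y, ?_⟩
    change (1 - e) * y = x.1 at hy
    show e * s y = s x.1
    rw [← hy, map_mul, ← h2, hs]
  · obtain ⟨y, hy⟩ := x.2
    refine ⟨s y, ?_⟩
    change e * y = x.1 at hy
    show (1 - e) * s y = s x.1
    rw [← hy, map_mul, ← h2]

include hs in
theorem card_U_hyp {e : C} (he : IsIdempotentElem e) (h0 : e ≠ 0) (h1 : e + s e = 1) :
    Nat.card (U s) < Nat.card (part C e) := by
  classical
  have h2 : s e = 1 - e := by rw [← h1]; ring
  have hee : e * e = e := he
  have h3 : Nat.card (U s) ≤ Nat.card {x : part C e // x ≠ 0} := by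
    refine Nat.card_le_card_of_injective (fun u : U s => ⟨⟨e * u.1, ⟨u.1, rfl⟩⟩, ?_⟩) ?_
    · intro h
      have h4 : e * u.1 = 0 := congrArg Subtype.val h
      have h5 : u.1 * s u.1 = 1 := u.2
      apply h0
      calc e = e * (u.1 * s u.1) := by rw [h5, mul_one]
        _ = (e * u.1) * s u.1 := by ring
        _ = 0 := by rw [h4, zero_mul]
    · rintro ⟨u, hu⟩ ⟨v, hv⟩ h
      have h4 : e * u = e * v := congrArg (fun x => (x.1 : part C e).1) h
      have hu' : u * s u = 1 := hu
      have hv' : v * s v = 1 := hv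
      have h5 : e * s u = e * s v := by
        calc e * s u = (e * s u) * (v * s v) := by rw [hv', mul_one]
          _ = (e * v) * (s u * s v) := by ring
          _ = (e * u) * (s u * s v) := by rw [h4]
          _ = e * s v * (u * s u) := by ring
          _ = e * s v := by rw [hu', mul_one]
      have h6 : s e * u = s e * v := by
        have := congrArg s h5
        rwa [map_mul, map_mul, hs, hs] at this
      apply Subtype.ext
      show u = v
      calc u = (e + s e) * u := by rw [h1, one_mul]
        _ = e * u + s e * u := by ring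
        _ = e * v + s e * v := by rw [h4, h6]
        _ = (e + s e) * v := by ring
        _ = v := by rw [h1, one_mul]
  have h4 : Nat.card {x : part C e // x ≠ 0} < Nat.card (part C e) := by
    have := Fintype.ofFinite (part C e)
    rw [Nat.card_eq_fintype_card, Nat.card_eq_fintype_card]
    exact Fintype.card_subtype_lt (x := 0) (by simp)
  omega

end hyp

/-- `C e` acts faithfully on `e V` -/
theorem card_part_le {F : Type u} [Field F] [Finite F] {C : Type v} [CommRing C] [Finite C] [Algebra F C]
    (V : Type w) [AddCommGroup V] [Module C V] [Finite V] [FaithfulSMul C V] {e : C} (he : IsIdempotentElem e)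
    (h0 : e ≠ 0) {m : ℕ} (hm : Nat.card (part V e) = Nat.card F ^ m) :
    Nat.card (part C e) ≤ Nat.card F ^ (m ^ 2 / 4 + 1) := by
  have hN := part_nontrivial (V := V) h0
  have hfin : Finite (C ⧸ Module.annihilator C (part V e)) := Finite.of_surjective _ Ideal.Quotient.mk_surjective
  let _ := Module.quotientAnnihilator (R := C) (M := part V e)
  have hfa : FaithfulSMul (C ⧸ Module.annihilator C (part V e)) (part V e) := by
    constructor
    intro x y hxy
    obtain ⟨x, rfl⟩ := Ideal.Quotient.mk_surjective x
    obtain ⟨y, rfl⟩ := Ideal.Quotient.mk_surjective y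
    rw [Ideal.Quotient.eq, Module.mem_annihilator]
    intro w
    have h1 : x • w = y • w := hxy w
    rw [sub_smul, h1, sub_self]
  have h1 := card_le_schur (F := F) m (C ⧸ Module.annihilator C (part V e)) (part V e) hm
  refine le_trans ?_ h1
  refine Nat.card_le_card_of_injective (fun x : part C e => Ideal.Quotient.mk _ x.1) ?_
  rintro ⟨_, x, rfl⟩ ⟨_, y, rfl⟩ h
  have h2 : (e * x - e * y) ∈ Module.annihilator C (part V e) := Ideal.Quotient.eq.1 h
  rw [Module.mem_annihilator] at h2
  apply Subtype.ext
  show e * x = e * y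
  apply FaithfulSMul.eq_of_smul_eq_smul (α := V)
  intro v
  have h3 : (e * x - e * y) • (e • v) = 0 := congrArg Subtype.val (h2 ⟨e • v, v, rfl⟩)
  have hee : e * e = e := he
  have h4 : (e * x - e * y) * e = e * x - e * y := by
    linear_combination (x - y) * hee
  rw [smul_smul, h4, sub_smul, sub_eq_zero] at h3
  exact h3

/-! ### algebras without symmetric idempotents -/

section base

variable {F : Type u} [Field F] [Finite F] {q : ℕ} (hq : Nat.card F = q ^ 2) {σ : F ≃+* F} (hσ : ∀ x, σ (σ x) = x)
  {η : F} (hη : σ η ≠ η)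

include hσ hη hq in
/-- the fixed field has `q` elements -/
theorem card_fixF : Nat.card ((σ : F →+* F).eqLocusField (RingHom.id F)) = q := by
  have h1 := card_fix (C := F) hσ (η := η) (IsUnit.mk0 _ (sub_ne_zero.2 (Ne.symm hη)))
  have h2 : Nat.card ((σ : F →+* F).eqLocusField (RingHom.id F)) = Nat.card (Fix σ) := rfl
  rw [h2]
  rw [hq] at h1
  exact (Nat.pow_left_injective (by norm_num : 2 ≠ 0) h1).symm

include hσ hη hq in
theorem base_bound (C : Type v) [CommRing C] [Finite C] [Algebra F C] (s : C ≃+* C) (V : Type w) [AddCommGroup V]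
    [Module C V] [Finite V] [FaithfulSMul C V] [Nontrivial V] (hs : ∀ c, s (s c) = c)
    (hF : ∀ x, s (algebraMap F C x) = algebraMap F C (σ x))
    (hid : ∀ e, IsIdempotentElem e → s e = e → e = 0 ∨ e = 1) (D n : ℕ) (hD : Nat.card C = Nat.card F ^ D)
    (hn : Nat.card V = Nat.card F ^ n) : Nat.card (U s) ≤ (q + 1) ^ D ∧ Nat.card (U s) ≤ β q n := by
  have hQ : 1 < Nat.card F := Finite.one_lt_card
  have hq2 : 2 ≤ q := by
    by_contra h
    have : q ≤ 1 := by omega
    rw [hq] at hQ
    have := Nat.pow_le_pow_left this 2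
    omega
  have hC : Nontrivial C := by
    by_contra h
    rw [not_nontrivial_iff_subsingleton] at h
    obtain ⟨x, y, hxy⟩ := exists_pair_ne V
    apply hxy
    rw [← one_smul C x, ← one_smul C y, Subsingleton.elim (1 : C) 0, zero_smul, zero_smul]
  have hD1 : 1 ≤ D := by
    rcases Nat.eq_zero_or_pos D with h | h
    · rw [h, pow_zero] at hD
      have : 1 < Nat.card C := Finite.one_lt_card
      omega
    · exact h
  have hS : Nat.card C ≤ Nat.card F ^ (n ^ 2 / 4 + 1) := card_le_schur n C V hn
  have hDn : D ≤ n ^ 2 / 4 + 1 := by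
    rw [hD] at hS
    exact (Nat.pow_le_pow_iff_right hQ).1 hS
  by_cases hloc : ∀ e : C, IsIdempotentElem e → e = 0 ∨ e = 1
  · -- local
    have := isLocalRing_of_idem hloc
    let F₀ := (σ : F →+* F).eqLocusField (RingHom.id F)
    let _ : Algebra F₀ C := ((algebraMap F C).comp F₀.subtype).toAlgebra
    have hη' : IsUnit (algebraMap F C η - s (algebraMap F C η)) := by
      rw [hF, ← map_sub]
      exact (IsUnit.mk0 _ (sub_ne_zero.2 (Ne.symm hη))).map _
    have h1 := card_U_local hs hη' (F₀ := F₀) (fun x => by
      show s (algebraMap F C x.1) = algebraMap F C x.1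
      rw [hF, show σ x.1 = x.1 from x.2])
    have h2 := card_fix hs hη'
    have h3 : Nat.card F₀ = q := card_fixF hq hσ hη
    rw [h3] at h1
    have h4 : Nat.card (Fix s) = q ^ D := by
      rw [hD, hq, ← pow_mul, mul_comm, pow_mul] at h2
      exact (Nat.pow_left_injective (by norm_num : 2 ≠ 0) h2).symm
    rw [h4] at h1
    obtain ⟨D, rfl⟩ := Nat.exists_eq_add_of_le hD1
    have h5 : Nat.card (U s) ≤ (q + 1) * q ^ D := by
      rw [pow_add, pow_one] at h1
      have : Nat.card (U s) * q ≤ ((q + 1) * q ^ D) * q := by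
        calc _ ≤ _ := h1
          _ = _ := by ring
      exact Nat.le_of_mul_le_mul_right this (by omega)
    constructor
    · refine h5.trans ?_
      rw [pow_add, pow_one]
      exact Nat.mul_le_mul_left _ (Nat.pow_le_pow_left (by omega) _)
    · refine h5.trans ((Nat.mul_le_mul_left _ (Nat.pow_le_pow_right (by omega) ?_)).trans (le_β₂ q n))
      omega
  · push Not at hloc
    obtain ⟨e, he, he0, he1⟩ := hloc
    have hee : e * e = e := he
    have h1 : e * s e = 0 := by
      have h2 : IsIdempotentElem (e * s e) := by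
        show e * s e * (e * s e) = e * s e
        have : s e * s e = s e := by rw [← map_mul, hee]
        calc e * s e * (e * s e) = (e * e) * (s e * s e) := by ring
          _ = _ := by rw [hee, this]
      rcases hid _ h2 (by rw [map_mul, hs, mul_comm]) with h3 | h3
      · exact h3
      · exfalso
        apply he1
        calc e = e * (e * s e) := by rw [h3, mul_one]
          _ = (e * e) * s e := by ring
          _ = 1 := by rw [hee, h3]
    have h2 : e + s e = 1 := by
      have h3 : IsIdempotentElem (e + s e) := by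
        show (e + s e) * (e + s e) = e + s e
        have : s e * s e = s e := by rw [← map_mul, hee]
        linear_combination hee + this + 2 * h1
      rcases hid _ h3 (by rw [map_add, hs, add_comm]) with h4 | h4
      · exfalso
        apply he0
        have : e * (e + s e) = e := by rw [mul_add, hee, h1, add_zero]
        rw [← this, h4, mul_zero]
      · exact h4
    have hse : s e = 1 - e := by rw [← h2]; ring
    have h3 := card_hyp hs he h2
    have h4 := card_U_hyp hs he he0 h2
    have h5 : Nat.card (part C e) = q ^ D := by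
      rw [hD, hq, ← pow_mul, mul_comm, pow_mul] at h3
      exact (Nat.pow_left_injective (by norm_num : 2 ≠ 0) h3).symm
    constructor
    · rw [h5] at h4
      exact h4.le.trans (Nat.pow_le_pow_left (by omega) _)
    · -- the dimensions
      have hpow : ∀ W : Submodule C V, ∃ a, Nat.card W = Nat.card F ^ a := by
        intro W
        let _ : Module F W := Module.compHom W (algebraMap F C)
        exact ⟨Module.finrank F W, Module.natCard_eq_pow_finrank⟩
      obtain ⟨a, ha⟩ := hpow (part V e)
      obtain ⟨b, hb⟩ := hpow (part V (1 - e))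
      have hab : n = a + b := by
        have h1 := card_part (V := V) he
        rw [hn, ha, hb, ← pow_add] at h1
        exact Nat.pow_right_injective hQ h1
      have he1' : 1 - e ≠ 0 := fun h => he1 (sub_eq_zero.1 h).symm
      have hN1 := part_nontrivial (V := V) he0
      have hN2 := part_nontrivial (V := V) he1'
      have hpos : ∀ (W : Submodule C V) [Nontrivial W] (a : ℕ), Nat.card W = Nat.card F ^ a → 1 ≤ a := by
        intro W _ a ha
        rcases Nat.eq_zero_or_pos a with h | h
        · exfalso
          rw [h, pow_zero] at ha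
          have : 1 < Nat.card W := Finite.one_lt_card
          omega
        · exact h
      have ha1 := hpos _ a ha
      have hb1 := hpos _ b hb
      have h6 := card_part_le (F := F) V he he0 ha
      have h7 := card_part_le (F := F) V he.one_sub he1' hb
      have h8 : Nat.card (part C (1 - e)) = Nat.card (part C e) := by
        have h9 := card_part (V := C) he
        rw [h3, sq] at h9
        exact (Nat.eq_of_mul_eq_mul_left Nat.card_pos h9).symm
      rw [h8] at h7
      have h9 : ∃ m, 1 ≤ m ∧ 2 * m ≤ n ∧ Nat.card (part C e) ≤ Nat.card F ^ (m ^ 2 / 4 + 1) := by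
        rcases le_total a b with h | h
        · exact ⟨a, ha1, by omega, h6⟩
        · exact ⟨b, hb1, by omega, h7⟩
      obtain ⟨m, hm1, hm2, hm⟩ := h9
      have h10 : Nat.card (U s) ≤ q ^ (2 * (m ^ 2 / 4 + 1)) := by
        rw [hq, ← pow_mul] at hm
        omega
      by_cases hm3 : m = 1
      · subst hm3
        refine h10.trans (le_trans ?_ (le_β₁ q n))
        calc q ^ (2 * (1 ^ 2 / 4 + 1)) = q ^ 2 := by norm_num
          _ ≤ (q + 1) ^ 2 := Nat.pow_le_pow_left (by omega) _
          _ ≤ _ := Nat.pow_le_pow_right (by omega) (by omega)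
      · refine h10.trans (le_trans ?_ (le_β₂ q n))
        have h11 : 2 * (m ^ 2 / 4 + 1) ≤ 1 + n ^ 2 / 4 := by
          have h12 : (2 * m) ^ 2 ≤ n ^ 2 := Nat.pow_le_pow_left hm2 2
          have h13 : (2 * m) ^ 2 = 4 * m ^ 2 := by ring
          have h14 : 2 ^ 2 ≤ m ^ 2 := Nat.pow_le_pow_left (by omega) 2
          omega
        calc q ^ (2 * (m ^ 2 / 4 + 1)) ≤ q ^ (1 + n ^ 2 / 4) := Nat.pow_le_pow_right (by omega) h11
          _ = q * q ^ (n ^ 2 / 4) := by rw [pow_add, pow_one]
          _ ≤ _ := Nat.mul_le_mul_right _ (by omega)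

include hσ hη hq in
/-- **The unitary bound**, by the dimension of the algebra. -/
theorem card_U_le_dim (C : Type v) [CommRing C] [Finite C] [Algebra F C] (s : C ≃+* C) (V : Type w) [AddCommGroup V]
    [Module C V] [Finite V] [FaithfulSMul C V] [Nontrivial V] (hs : ∀ c, s (s c) = c)
    (hF : ∀ x, s (algebraMap F C x) = algebraMap F C (σ x)) (D n : ℕ) (hD : Nat.card C = Nat.card F ^ D)
    (hn : Nat.card V = Nat.card F ^ n) : Nat.card (U s) ≤ (q + 1) ^ D :=
  U_rec (F := F) σ (fun D _ => (q + 1) ^ D) (fun D₁ _ D₂ _ _ _ _ _ => (pow_add _ _ _).ge)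
    (fun C _ _ _ s V _ _ _ _ _ hs hF hid D n hD hn => (base_bound hq hσ hη C s V hs hF hid D n hD hn).1) n C s V hs hF
    D hD hn

include hσ hη hq in
/-- **The unitary bound**, by the dimension of the space. -/
theorem card_U_le (C : Type v) [CommRing C] [Finite C] [Algebra F C] (s : C ≃+* C) (V : Type w) [AddCommGroup V]
    [Module C V] [Finite V] [FaithfulSMul C V] [Nontrivial V] (hs : ∀ c, s (s c) = c)
    (hF : ∀ x, s (algebraMap F C x) = algebraMap F C (σ x)) (n : ℕ)
    (hn : Nat.card V = Nat.card F ^ n) : Nat.card (U s) ≤ β q n := by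
  have hQ : 1 < Nat.card F := Finite.one_lt_card
  have hq2 : 2 ≤ q := by
    by_contra h
    have : q ≤ 1 := by omega
    rw [hq] at hQ
    have := Nat.pow_le_pow_left this 2
    omega
  have hD : Nat.card C = Nat.card F ^ Module.finrank F C := Module.natCard_eq_pow_finrank
  exact U_rec (F := F) σ (fun _ n => β q n) (fun _ n₁ _ n₂ _ h1 _ h2 => β_mul hq2 n₁ n₂ h1 h2)
    (fun C _ _ _ s V _ _ _ _ _ hs hF hid D n hD hn => (base_bound hq hσ hη C s V hs hF hid D n hD hn).2) n C s V hs hF
    _ hD hn

end base

end Cfsg.Agent.H498.Ab.Uni
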